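import Groth.Agent.Lib.DiffLattice.Local

/-!
# The lower bound for the exponent of the different, and tameness
-/

set_option autoImplicit false
set_option linter.style.haveILetI false
set_option linter.unusedSectionVars false

namespace GrothLib.DiffLattice

open _root_.FunFld WithZero GrothLib.FunFld

variable {k K K' : Type*} [Field k] [Field K] [Field K'] [Algebra k K] [Algebra K K'] [Algebra k K']
  [IsScalarTower k K K'] [FiniteDimensional K K'] {P : Place k K}

/-- Integral above `P` and small at the places other than `Q`. -/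
def IsSmallOff (Q : Place k K') (P : Place k K) (z : K') : Prop :=
  val Q z ≤ 1 ∧ ∀ R : Place k K', IsOver R P → R ≠ Q → val R z ≤ exp (-(ramIdx R P : ℤ))

theorem IsSmallOff.val_le_one {Q : Place k K'} {z : K'} (hz : IsSmallOff Q P z) (R : Place k K')
    (hR : IsOver R P) : val R z ≤ 1 := by
  rcases eq_or_ne R Q with rfl | hne
  · exact hz.1
  · refine (hz.2 R hR hne).trans ?_
    rw [← exp_zero, exp_le_exp]; omega

theorem trace_val_le_one (h : IsFG k K) {z : K'} (hz : ∀ R : Place k K', IsOver R P → val R z ≤ 1) :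
    val P (Algebra.trace K K' z) ≤ 1 := by
  have := isDual_one (K' := K') h z hz
  rwa [one_mul] at this

section Aux

variable [Algebra P.O K'] [IsScalarTower P.O K K']

theorem mem_map_maximalIdeal (h : IsFG k K) {y : integralClosure P.O K'}
    (hy : ∀ R : Place k K', IsOver R P → val R (y : K') ≤ exp (-(ramIdx R P : ℤ))) :
    y ∈ (IsLocalRing.maximalIdeal P.O).map (algebraMap P.O (integralClosure P.O K')) := by
  obtain ⟨π, hπ0, hπ⟩ := exists_val_eq P (-1)
  have hπO : π ∈ P.O := by rw [mem_O_iff, hπ, ← exp_zero, exp_le_exp]; omega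
  have hm : (⟨π, hπO⟩ : P.O) ∈ IsLocalRing.maximalIdeal P.O := by
    rw [← IsLocalRing.residue_eq_zero_iff]
    refine (res_eq_zero_iff P ⟨π, hπO⟩).2 ?_
    show val P π < 1
    rw [hπ, ← exp_zero, exp_lt_exp]; omega
  have hint : IsIntegral P.O ((y : K') / algebraMap K K' π) := (isIntegral_iff_forall h _).2 fun R hR => by
    rw [map_div₀, show val R (algebraMap K K' π) = val P π ^ ramIdx R P from ramIdx_spec hR π, hπ,
      ← exp_nsmul, show (ramIdx R P) • (-1 : ℤ) = -(ramIdx R P : ℤ) by simp,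
      div_le_one₀ (zero_lt_iff.2 exp_ne_zero)]
    exact hy R hR
  have : y = algebraMap P.O (integralClosure P.O K') ⟨π, hπO⟩ * ⟨_, hint⟩ := Subtype.ext (by
    show (y : K') = algebraMap P.O K' ⟨π, hπO⟩ * ((y : K') / algebraMap K K' π)
    rw [IsScalarTower.algebraMap_apply P.O K K']
    exact (mul_div_cancel₀ _ (by simpa using hπ0)).symm)
  rw [this]
  exact Ideal.mul_mem_right _ _ (Ideal.mem_map_of_mem _ hm)

theorem residue_trace_mk (h : IsFG k K) (y : integralClosure P.O K')
    (hy : val P (Algebra.trace K K' (y : K')) ≤ 1) :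
    Algebra.trace (P.O ⧸ IsLocalRing.maximalIdeal P.O)
        (integralClosure P.O K' ⧸ (IsLocalRing.maximalIdeal P.O).map (algebraMap P.O (integralClosure P.O K')))
        (Ideal.Quotient.mk _ y) =
      (Ideal.Quotient.mk (IsLocalRing.maximalIdeal P.O) ⟨_, hy⟩ : P.O ⧸ IsLocalRing.maximalIdeal P.O) := by
  haveI := isPrincipalIdealRing_O P
  haveI : Module.Finite P.O (integralClosure P.O K') := integralClosure_finite h P
  obtain ⟨n, b, c, -, -, htr⟩ := exists_intBasis_aux (K' := K') P h
  haveI : Module.Free P.O (integralClosure P.O K') := Module.Free.of_basis b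
  rw [Algebra.trace_quotient_mk]
  exact congrArg _ (Subtype.ext (htr y))

theorem trace_val_lt_one_aux (h : IsFG k K) {z : K'}
    (hz : ∀ R : Place k K', IsOver R P → val R z < 1) : val P (Algebra.trace K K' z) < 1 := by
  obtain ⟨hfin, -⟩ := sum_ramIdx (K' := K') h P
  set N := (∑ R ∈ hfin.toFinset, ramIdx R P) + 1 with hN
  have hint : IsIntegral P.O z := (isIntegral_iff_forall h z).2 fun R hR => (hz R hR).le
  have hnil : IsNilpotent (Ideal.Quotient.mk ((IsLocalRing.maximalIdeal P.O).map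
      (algebraMap P.O (integralClosure P.O K'))) ⟨z, hint⟩) := by
    refine ⟨N, ?_⟩
    rw [← map_pow, Ideal.Quotient.eq_zero_iff_mem]
    refine mem_map_maximalIdeal h fun R hR => ?_
    show val R (z ^ N) ≤ _
    rw [map_pow]
    refine (pow_le_exp_neg (hz R hR) (by omega)).trans (exp_le_exp.2 ?_)
    have := Finset.single_le_sum (f := fun R => ramIdx R P) (fun _ _ => Nat.zero_le _) (hfin.mem_toFinset.2 hR)
    omega
  have hle := trace_val_le_one (P := P) h fun R hR => (hz R hR).le
  have h1 := residue_trace_mk h ⟨z, hint⟩ hle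
  have h2 := (Algebra.isNilpotent_trace_of_isNilpotent (R := P.O ⧸ IsLocalRing.maximalIdeal P.O)
    (S := integralClosure P.O K' ⧸ (IsLocalRing.maximalIdeal P.O).map (algebraMap P.O (integralClosure P.O K'))) hnil)
  rw [h1] at h2
  haveI : IsReduced (P.O ⧸ IsLocalRing.maximalIdeal P.O) :=
    inferInstanceAs (IsReduced (IsLocalRing.ResidueField P.O))
  exact (res_eq_zero_iff P ⟨_, hle⟩).1 h2.eq_zero

/-- The fibre ring is an algebra over the residue field. -/
noncomputable scoped instance algebraFibre : Algebra (IsLocalRing.ResidueField P.O)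
    (integralClosure P.O K' ⧸ (IsLocalRing.maximalIdeal P.O).map (algebraMap P.O (integralClosure P.O K'))) :=
  inferInstanceAs (Algebra (P.O ⧸ IsLocalRing.maximalIdeal P.O) _)

instance isScalarTower_fibre : IsScalarTower P.O (IsLocalRing.ResidueField P.O)
    (integralClosure P.O K' ⧸ (IsLocalRing.maximalIdeal P.O).map (algebraMap P.O (integralClosure P.O K'))) :=
  inferInstanceAs (IsScalarTower P.O (P.O ⧸ IsLocalRing.maximalIdeal P.O) _)

set_option quotPrecheck false in
local notation "ℬ" => integralClosure P.O K'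
set_option quotPrecheck false in
local notation "𝔐" => Ideal.map (algebraMap P.O (integralClosure P.O K')) (IsLocalRing.maximalIdeal P.O)
set_option quotPrecheck false in
local notation "κP" => IsLocalRing.ResidueField P.O

set_option maxHeartbeats 1600000 in
set_option synthInstance.maxHeartbeats 200000 in
theorem residue_trace_aux (h : IsFG k K) {Q : Place k K'} {e : ℕ} (he : IsOverWith Q P e)
    [Algebra (IsLocalRing.ResidueField P.O) (IsLocalRing.ResidueField Q.O)]
    (hcompat : ∀ (o : P.O) (ho : algebraMap K K' (o : K) ∈ Q.O),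
      algebraMap (IsLocalRing.ResidueField P.O) (IsLocalRing.ResidueField Q.O) (IsLocalRing.residue _ o) =
        IsLocalRing.residue _ ⟨algebraMap K K' (o : K), ho⟩)
    {z : K'} (hz : IsSmallOff Q P z) (hzQ : z ∈ Q.O) (hle : Algebra.trace K K' z ∈ P.O) :
    Module.Finite (IsLocalRing.ResidueField P.O) (IsLocalRing.ResidueField Q.O) ∧
      IsLocalRing.residue P.O ⟨_, hle⟩ =
        e • Algebra.trace (IsLocalRing.ResidueField P.O) (IsLocalRing.ResidueField Q.O)
          (IsLocalRing.residue Q.O ⟨z, hzQ⟩) := by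
  classical
  have hQ : IsOver Q P := ⟨e, he⟩
  have hrQ : ramIdx Q P = e := ramIdx_eq he
  haveI := isPrincipalIdealRing_O P
  haveI : Module.Finite P.O (integralClosure P.O K') := integralClosure_finite h P
  haveI : Module.Finite κP (ℬ ⧸ 𝔐) := Module.Finite.of_restrictScalars_finite P.O κP (ℬ ⧸ 𝔐)
  have hint : ∀ w : K', IsIntegral P.O w ↔ ∀ R : Place k K', IsOver R P → val R w ≤ 1 :=
    isIntegral_iff_forall h
  have hB1 : ∀ (w : ℬ) (R : Place k K'), IsOver R P → val R (w : K') ≤ 1 := fun w => (hint _).1 w.2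
  -- the elements small at `Q`
  let I : Ideal ℬ :=
    { carrier := {w | val Q (w : K') ≤ exp (-(e : ℤ))}
      add_mem' := fun {a b} ha hb => ((val Q).map_add _ _).trans (max_le ha hb)
      zero_mem' := by simp
      smul_mem' := fun a w hw => by
        show val Q ((a : K') * (w : K')) ≤ _
        rw [map_mul]
        exact (mul_le_of_le_one_left' (hB1 a Q hQ)).trans hw }
  letI : CommRing (ℬ ⧸ I) := Ideal.Quotient.commRing I
  have hI : ∀ w : ℬ, w ∈ I ↔ val Q (w : K') ≤ exp (-(e : ℤ)) := fun w => Iff.rfl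
  have hMI : 𝔐 ≤ I := by
    refine Ideal.map_le_iff_le_comap.2 fun o ho => ?_
    rw [Ideal.mem_comap, hI]
    show val Q (algebraMap P.O K' o) ≤ _
    rw [IsScalarTower.algebraMap_apply P.O K K', show algebraMap P.O K o = (o : K) from rfl,
      show val Q (algebraMap K K' (o : K)) = val P (o : K) ^ e from he _,
      show (exp (-(e : ℤ)) : WithZero (Multiplicative ℤ)) = exp (-1) ^ e by rw [← exp_nsmul]; simp]
    refine pow_le_pow_left₀ zero_le ?_ e
    rw [show (-1 : ℤ) = 0 - 1 by norm_num, le_exp_sub_one_iff, exp_zero]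
    exact (res_eq_zero_iff P o).1 ((IsLocalRing.residue_eq_zero_iff o).2 ho)
  let q0 : (ℬ ⧸ 𝔐) →+* (ℬ ⧸ I) := Ideal.Quotient.factor hMI
  letI : Algebra κP (ℬ ⧸ I) := (q0.comp (algebraMap κP (ℬ ⧸ 𝔐))).toAlgebra' fun c x => mul_comm _ x
  let q : (ℬ ⧸ 𝔐) →ₐ[κP] (ℬ ⧸ I) := { toRingHom := q0, commutes' := fun _ => rfl }
  have hq : Function.Surjective q := Ideal.Quotient.factor_surjective hMI
  haveI : Module.Finite κP (ℬ ⧸ I) := Module.Finite.of_surjective q.toLinearMap hq
  -- a uniformiser at `Q`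
  obtain ⟨t0, ht0⟩ := exists_approx_eq (sum_ramIdx (K' := K') h P).1.toFinset (fun _ => 0)
    (fun R => if R = Q then -1 else 0)
  have ht : ∀ R : Place k K', IsOver R P → val R t0 = exp (if R = Q then -1 else 0) := fun R hR => by
    simpa using ht0 R ((sum_ramIdx (K' := K') h P).1.mem_toFinset.2 hR)
  have htint : IsIntegral P.O t0 := (hint _).2 fun R hR => by
    rw [ht R hR, ← exp_zero, exp_le_exp]; split_ifs <;> omega
  let t : ℬ := ⟨t0, htint⟩
  have htQ : val Q t0 = exp (-1) := by rw [ht Q hQ, if_pos rfl]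
  have hdvd : ∀ w : ℬ, val Q (w : K') ≤ exp (-1) → ∃ v : ℬ, w - t * v ∈ I := by
    intro w hw
    obtain ⟨v, hv⟩ := exists_approx (sum_ramIdx (K' := K') h P).1.toFinset
      (fun R => if R = Q then (w : K') / t0 else 0) (fun R => if R = Q then -(e : ℤ) else 0)
    have ht00 : t0 ≠ 0 := (val Q).ne_zero_iff.1 (htQ ▸ exp_ne_zero)
    have hvint : IsIntegral P.O v := (hint _).2 fun R hR => by
      have h1 := hv R ((sum_ramIdx (K' := K') h P).1.mem_toFinset.2 hR)
      rcases eq_or_ne R Q with rfl | hne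
      · rw [if_pos rfl, if_pos rfl] at h1
        rw [show v = (v - (w : K') / t0) + (w : K') / t0 by ring]
        refine ((val R).map_add _ _).trans (max_le (h1.trans ?_) ?_)
        · rw [← exp_zero, exp_le_exp]; omega
        · rw [map_div₀, htQ, div_le_one₀ (zero_lt_iff.2 exp_ne_zero)]; exact hw
      · rw [if_neg hne, if_neg hne, sub_zero, exp_zero] at h1
        exact h1
    refine ⟨⟨v, hvint⟩, ?_⟩
    have h1 := hv Q ((sum_ramIdx (K' := K') h P).1.mem_toFinset.2 hQ)
    rw [if_pos rfl, if_pos rfl] at h1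
    rw [hI]
    show val Q ((w : K') - t0 * v) ≤ _
    rw [show (w : K') - t0 * v = -(t0 * (v - (w : K') / t0)) by field_simp; ring, Valuation.map_neg,
      map_mul]
    refine mul_le_of_le_one_left' ?_ |>.trans h1
    rw [htQ, ← exp_zero, exp_le_exp]; omega
  -- the residue map
  let Φ0 : ℬ →+* IsLocalRing.ResidueField Q.O := (IsLocalRing.residue Q.O).comp
    { toFun := fun w => ⟨(w : K'), hB1 w Q hQ⟩
      map_one' := rfl
      map_mul' := fun _ _ => rfl
      map_zero' := rfl
      map_add' := fun _ _ => rfl }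
  have hΦ0 : ∀ w : ℬ, Φ0 w = 0 ↔ val Q (w : K') < 1 := fun w => res_eq_zero_iff Q ⟨(w : K'), hB1 w Q hQ⟩
  have hIker : I ≤ RingHom.ker Φ0 := fun w hw => by
    rw [RingHom.mem_ker, hΦ0]
    refine ((hI w).1 hw).trans_lt ?_
    rw [← exp_zero, exp_lt_exp]; have := pos_of_isOverWith he; omega
  let Φ' : (ℬ ⧸ I) →ₐ[κP] IsLocalRing.ResidueField Q.O :=
    { toRingHom := Ideal.Quotient.lift I Φ0 hIker
      commutes' := fun c => by
        obtain ⟨o, rfl⟩ := IsLocalRing.residue_surjective c
        have ho : algebraMap K K' (o : K) ∈ Q.O := (val_le_one_iff_of_isOverWith he _).2 o.2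
        rw [hcompat o ho]
        refine congrArg (IsLocalRing.residue Q.O) (Subtype.ext ?_)
        exact IsScalarTower.algebraMap_apply P.O K K' o }
  have hΦ' : Function.Surjective Φ' := fun r => by
    obtain ⟨⟨r, hr⟩, rfl⟩ := IsLocalRing.residue_surjective r
    obtain ⟨v, hv⟩ := exists_approx (sum_ramIdx (K' := K') h P).1.toFinset
      (fun R => if R = Q then r else 0) (fun R => if R = Q then -1 else 0)
    have h1 := hv Q ((sum_ramIdx (K' := K') h P).1.mem_toFinset.2 hQ)
    rw [if_pos rfl, if_pos rfl] at h1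
    have hvint : IsIntegral P.O v := (hint _).2 fun R hR => by
      have h2 := hv R ((sum_ramIdx (K' := K') h P).1.mem_toFinset.2 hR)
      rcases eq_or_ne R Q with rfl | hne
      · rw [show v = (v - r) + r by ring]
        refine ((val R).map_add _ _).trans (max_le (h1.trans ?_) hr)
        rw [← exp_zero, exp_le_exp]; omega
      · rw [if_neg hne, if_neg hne, sub_zero, exp_zero] at h2
        exact h2
    refine ⟨Ideal.Quotient.mk I (⟨v, hvint⟩), ?_⟩
    show Φ0 ⟨v, hvint⟩ = _
    rw [← sub_eq_zero]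
    show IsLocalRing.residue Q.O _ - IsLocalRing.residue Q.O _ = 0
    rw [← map_sub]
    exact (res_eq_zero_iff Q _).2 (h1.trans_lt (by rw [← exp_zero, exp_lt_exp]; omega))
  have hfinQ : Module.Finite κP (IsLocalRing.ResidueField Q.O) :=
    Module.Finite.of_surjective Φ'.toLinearMap hΦ'
  refine ⟨hfinQ, ?_⟩
  -- the trace
  have hzint : IsIntegral P.O z := (hint _).2 (hz.val_le_one)
  let zb : ℬ ⧸ 𝔐 := Ideal.Quotient.mk 𝔐 ⟨z, hzint⟩
  have hkill : ∀ c : ℬ ⧸ 𝔐, q c = 0 → zb * c = 0 := fun c hc => by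
    obtain ⟨w, rfl⟩ := Ideal.Quotient.mk_surjective c
    have hw : w ∈ I := Ideal.Quotient.eq_zero_iff_mem.1 hc
    rw [← map_mul, Ideal.Quotient.eq_zero_iff_mem]
    refine mem_map_maximalIdeal h fun R hR => ?_
    show val R (z * (w : K')) ≤ _
    rw [map_mul]
    rcases eq_or_ne R Q with rfl | hne
    · rw [hrQ]; exact (mul_le_of_le_one_left' hz.1).trans ((hI w).1 hw)
    · exact (mul_le_of_le_one_right' (hB1 w R hR)).trans (hz.2 R hR hne)
  have step1 : Algebra.trace κP (ℬ ⧸ 𝔐) zb = Algebra.trace κP (ℬ ⧸ I) (q zb) := by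
    have := GrothLib.TameDifferent.trace_eq_add_of_exact (i := (LinearMap.ker q.toLinearMap).subtype)
      (q := q.toLinearMap) Subtype.val_injective hq
      (fun c => ⟨fun hc => ⟨⟨c, hc⟩, rfl⟩, fun ⟨⟨_, hc⟩, h'⟩ => h' ▸ hc⟩)
      (Algebra.lmul κP (ℬ ⧸ 𝔐) zb) 0 (Algebra.lmul κP (ℬ ⧸ I) (q zb))
      (LinearMap.ext fun c => by
        show zb * (c : ℬ ⧸ 𝔐) = _
        rw [hkill _ c.2]; simp)
      (LinearMap.ext fun c => by
        show q (zb * c) = q zb * q c
        exact map_mul _ _ _)
    rwa [map_zero, zero_add] at this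
  set tb : ℬ ⧸ I := Ideal.Quotient.mk I t with htb
  have hlift : ∀ w : ℬ, Ideal.Quotient.mk I (w) = 0 ↔ val Q (w : K') ≤ exp (-(e : ℤ)) :=
    fun w => by rw [Ideal.Quotient.eq_zero_iff_mem, hI]
  have hker : Ideal.span {tb} = RingHom.ker Φ' := by
    ext c
    obtain ⟨w, rfl⟩ := Ideal.Quotient.mk_surjective c
    rw [RingHom.mem_ker, show Φ' (Ideal.Quotient.mk I (w)) = Φ0 w from rfl, hΦ0,
      Ideal.mem_span_singleton]
    constructor
    · rintro ⟨d, hd⟩
      obtain ⟨v, rfl⟩ := Ideal.Quotient.mk_surjective d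
      rw [htb, ← map_mul, ← sub_eq_zero, ← map_sub, hlift] at hd
      rw [show (w : K') = ((w - t * v : ℬ) : K') + t0 * (v : K') by simp [t]]
      refine ((val Q).map_add _ _).trans_lt (max_lt (hd.trans_lt ?_) ?_)
      · rw [← exp_zero, exp_lt_exp]; have := pos_of_isOverWith he; omega
      · rw [map_mul, htQ]
        refine (mul_le_of_le_one_right' (hB1 v Q hQ)).trans_lt ?_
        rw [← exp_zero, exp_lt_exp]; omega
    · intro hw
      rw [← exp_zero, ← le_exp_sub_one_iff] at hw
      obtain ⟨v, hv⟩ := hdvd w hw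
      refine ⟨Ideal.Quotient.mk I (v), ?_⟩
      rw [htb, ← map_mul, ← sub_eq_zero, ← map_sub, Ideal.Quotient.eq_zero_iff_mem]
      exact hv
  have step2 : Algebra.trace κP (ℬ ⧸ I) (q zb) =
      e • Algebra.trace κP ((ℬ ⧸ I) ⧸ Ideal.span {tb}) (Ideal.Quotient.mk _ (q zb)) := by
    refine GrothLib.TameDifferent.trace_eq_nsmul tb e ?_ ?_ _
    · rw [htb, ← map_pow, hlift]
      show val Q (t0 ^ e) ≤ _
      rw [map_pow, htQ, ← exp_nsmul]; simp
    · intro m hm c hc
      obtain ⟨w, rfl⟩ := Ideal.Quotient.mk_surjective c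
      rw [← Ideal.mem_span_singleton, hker, RingHom.mem_ker,
        show Φ' (Ideal.Quotient.mk I (w)) = Φ0 w from rfl, hΦ0]
      obtain ⟨d, hd⟩ := hc
      obtain ⟨v, rfl⟩ := Ideal.Quotient.mk_surjective d
      rw [htb, ← map_pow, ← map_pow, ← map_mul, ← map_mul, ← sub_eq_zero, ← map_sub, hlift] at hd
      have hd' : val Q (t0 ^ m * (w : K') - t0 ^ (m + 1) * (v : K')) ≤ exp (-(e : ℤ)) := hd
      rw [show t0 ^ m * (w : K') - t0 ^ (m + 1) * (v : K') = t0 ^ m * ((w : K') - t0 * (v : K')) by ring,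
        map_mul, map_pow, htQ, ← exp_nsmul] at hd'
      have h2 : val Q ((w : K') - t0 * (v : K')) ≤ exp (-1) := by
        have h3 := mul_le_mul_right hd' (exp (m : ℤ))
        rw [← mul_assoc, ← exp_add, show (m : ℤ) + m • (-1 : ℤ) = 0 by simp, exp_zero, one_mul, ← exp_add] at h3
        refine h3.trans (exp_le_exp.2 ?_)
        omega
      rw [show (w : K') = ((w : K') - t0 * (v : K')) + t0 * (v : K') by ring]
      refine ((val Q).map_add _ _).trans_lt (max_lt (h2.trans_lt ?_) ?_)
      · rw [← exp_zero, exp_lt_exp]; omega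
      · rw [map_mul, htQ]
        refine (mul_le_of_le_one_right' (hB1 v Q hQ)).trans_lt ?_
        rw [← exp_zero, exp_lt_exp]; omega
  let ε : ((ℬ ⧸ I) ⧸ Ideal.span {tb}) ≃ₐ[κP] IsLocalRing.ResidueField Q.O :=
    (Ideal.quotientEquivAlgOfEq _ hker).trans (Ideal.quotientKerAlgEquivOfSurjective hΦ')
  have hmk : IsLocalRing.residue P.O ⟨_, hle⟩ = Algebra.trace κP (ℬ ⧸ 𝔐) zb :=
    (residue_trace_mk h ⟨z, hzint⟩ hle).symm
  rw [hmk, step1, step2, ← Algebra.trace_eq_of_algEquiv ε]
  rfl

end Aux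

theorem trace_val_lt_one (h : IsFG k K) {z : K'} (hz : ∀ R : Place k K', IsOver R P → val R z < 1) :
    val P (Algebra.trace K K' z) < 1 := by
  letI : Algebra P.O K' := ((algebraMap K K').comp P.O.subtype).toAlgebra
  haveI : IsScalarTower P.O K K' := .of_algebraMap_eq fun _ => rfl
  exact trace_val_lt_one_aux h hz

theorem val_algebraMap_uniformizer {π : K} (hπ : val P π = exp (-1)) {R : Place k K'} (hR : IsOver R P) :
    val R (algebraMap K K' π) = exp (-(ramIdx R P : ℤ)) := by
  rw [show val R (algebraMap K K' π) = val P π ^ ramIdx R P from ramIdx_spec hR π, hπ, ← exp_nsmul]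
  simp

open scoped Classical in
theorem exists_val_prescribed (h : IsFG k K) (Q : Place k K') (m : ℤ) :
    ∃ x : K', ∀ R : Place k K', IsOver R P → val R x = exp (if R = Q then m else 0) := by
  classical
  obtain ⟨x, hx⟩ := exists_approx_eq (sum_ramIdx (K' := K') h P).1.toFinset (fun _ => 0)
    (fun R => if R = Q then m else 0)
  exact ⟨x, fun R hR => by simpa using hx R ((sum_ramIdx (K' := K') h P).1.mem_toFinset.2 hR)⟩

variable {d : Place k K' → ℕ} {Q : Place k K'} {e : ℕ}

/-- `e - 1 ≤ d`. -/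
theorem le_diffExp_add_one (h : IsFG k K) (hd : IsDiffExp P d) (he : IsOverWith Q P e) : e ≤ d Q + 1 := by
  classical
  have hQ : IsOver Q P := ⟨e, he⟩
  have hpos := pos_of_isOverWith he
  obtain ⟨x, hx⟩ := exists_val_prescribed (P := P) h Q ((e : ℤ) - 1)
  obtain ⟨π, hπ0, hπ⟩ := exists_val_eq P (-1)
  have hdual : IsDual P x := by
    intro y hy
    have h1 : val P (Algebra.trace K K' (algebraMap K K' π * (x * y))) < 1 := by
      refine trace_val_lt_one h fun R hR => ?_
      rw [map_mul, map_mul, val_algebraMap_uniformizer hπ hR, hx R hR, ← mul_assoc, ← exp_add]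
      refine (mul_le_of_le_one_right' (hy R hR)).trans_lt ?_
      rw [← exp_zero, exp_lt_exp]
      split_ifs with hRQ
      · subst hRQ; rw [ramIdx_eq he]; omega
      · have := pos_of_isOverWith (ramIdx_spec hR); omega
    rw [← Algebra.smul_def, map_smul, smul_eq_mul, map_mul, hπ] at h1
    have h2 := mul_lt_mul_of_pos_left h1 (zero_lt_iff.2 (exp_ne_zero (a := (1 : ℤ))))
    rw [← mul_assoc, ← exp_add, show (1 : ℤ) + -1 = 0 by omega, exp_zero, one_mul, mul_one] at h2
    rw [show (1 : ℤ) = 1 from rfl] at h2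
    rw [← exp_zero, show (0 : ℤ) = 1 - 1 by omega, le_exp_sub_one_iff]
    exact h2
  have h3 := (hd x).1 hdual Q hQ
  rw [hx Q hQ, if_pos rfl, exp_le_exp] at h3
  omega

/-- The exponent is at most `e - 1` exactly when some small element has unit trace. -/
theorem diffExp_lt_iff (h : IsFG k K) (hd : IsDiffExp P d) (he : IsOverWith Q P e) :
    d Q < e ↔ ∃ z : K', IsSmallOff Q P z ∧ ¬ val P (Algebra.trace K K' z) < 1 := by
  classical
  have hQ : IsOver Q P := ⟨e, he⟩
  obtain ⟨π, hπ0, hπ⟩ := exists_val_eq P (-1)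
  have hπ0' : algebraMap K K' π ≠ 0 := by simpa using hπ0
  constructor
  · intro hlt
    by_contra hno
    push Not at hno
    obtain ⟨x, hx⟩ := exists_val_prescribed (P := P) h Q (e : ℤ)
    have hdual : IsDual P x := by
      intro y hy
      have hJ : IsSmallOff Q P (algebraMap K K' π * (x * y)) := by
        refine ⟨?_, fun R hR hne => ?_⟩
        · rw [map_mul, map_mul, val_algebraMap_uniformizer hπ hQ, hx Q hQ, ← mul_assoc, ← exp_add,
            ramIdx_eq he, if_pos rfl, neg_add_cancel, exp_zero, one_mul]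
          exact hy Q hQ
        · rw [map_mul, map_mul, val_algebraMap_uniformizer hπ hR, hx R hR, ← mul_assoc, ← exp_add, if_neg hne,
            add_zero]
          exact mul_le_of_le_one_right' (hy R hR)
      have h1 := hno _ hJ
      rw [← Algebra.smul_def, map_smul, smul_eq_mul, map_mul, hπ] at h1
      have h2 := mul_lt_mul_of_pos_left h1 (zero_lt_iff.2 (exp_ne_zero (a := (1 : ℤ))))
      rw [← mul_assoc, ← exp_add, show (1 : ℤ) + -1 = 0 by omega, exp_zero, one_mul, mul_one] at h2
      rw [← exp_zero, show (0 : ℤ) = 1 - 1 by omega, le_exp_sub_one_iff]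
      exact h2
    have h3 := (hd x).1 hdual Q hQ
    rw [hx Q hQ, if_pos rfl, exp_le_exp] at h3
    omega
  · rintro ⟨z, hz, hnot⟩
    by_contra hge
    rw [not_lt] at hge
    refine hnot ?_
    have hdual : IsDual P (z / algebraMap K K' π) := (hd _).2 fun R hR => by
      rw [map_div₀, val_algebraMap_uniformizer hπ hR, div_le_iff₀ (zero_lt_iff.2 exp_ne_zero), ← exp_add]
      rcases eq_or_ne R Q with rfl | hne
      · refine hz.1.trans ?_
        rw [← exp_zero, exp_le_exp, ramIdx_eq he]; omega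
      · refine (hz.2 R hR hne).trans ?_
        rw [exp_le_exp]; omega
    have h1 := hdual 1 fun R _ => by simp
    rw [mul_one, show z / algebraMap K K' π = π⁻¹ • z by rw [Algebra.smul_def, map_inv₀]; ring, map_smul,
      smul_eq_mul, map_mul, map_inv₀, hπ, inv_mul_le_one₀ (zero_lt_iff.2 exp_ne_zero)] at h1
    exact h1.trans_lt (by rw [← exp_zero, exp_lt_exp]; omega)

/-- Equality `d = e - 1` holds exactly in the tame case. -/
theorem diffExp_eq_iff_tame (h : IsFG k K) (hd : IsDiffExp P d) (he : IsOverWith Q P e)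
    [Algebra (IsLocalRing.ResidueField P.O) (IsLocalRing.ResidueField Q.O)]
    (hcompat : ∀ (o : P.O) (ho : algebraMap K K' (o : K) ∈ Q.O),
      algebraMap (IsLocalRing.ResidueField P.O) (IsLocalRing.ResidueField Q.O) (IsLocalRing.residue _ o) =
        IsLocalRing.residue _ ⟨algebraMap K K' (o : K), ho⟩) :
    d Q + 1 = e ↔ (Algebra.IsSeparable (IsLocalRing.ResidueField P.O) (IsLocalRing.ResidueField Q.O) ∧
      (e : IsLocalRing.ResidueField P.O) ≠ 0) := by
  classical
  letI : Algebra P.O K' := ((algebraMap K K').comp P.O.subtype).toAlgebra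
  haveI : IsScalarTower P.O K K' := .of_algebraMap_eq fun _ => rfl
  have hle := le_diffExp_add_one h hd he
  rw [show d Q + 1 = e ↔ d Q < e by omega, diffExp_lt_iff h hd he]
  have hmem : ∀ {z : K'}, IsSmallOff Q P z → Algebra.trace K K' z ∈ P.O := fun hz =>
    trace_val_le_one h hz.val_le_one
  constructor
  · rintro ⟨z, hz, hnot⟩
    obtain ⟨hfin, htr⟩ := residue_trace_aux h he hcompat hz hz.1 (hmem hz)
    have hne : IsLocalRing.residue P.O ⟨_, hmem hz⟩ ≠ 0 := fun h0 => hnot ((res_eq_zero_iff P ⟨_, hmem hz⟩).1 h0)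
    rw [htr, nsmul_eq_mul, mul_ne_zero_iff] at hne
    refine ⟨?_, hne.1⟩
    by_contra hsep
    exact hne.2 (by rw [Algebra.trace_eq_zero_of_not_isSeparable hsep]; rfl)
  · rintro ⟨hsep, hne⟩
    have h0 : IsSmallOff Q P (0 : K') := ⟨by simp, fun R _ _ => by simp⟩
    haveI := (residue_trace_aux h he hcompat h0 h0.1 (hmem h0)).1
    obtain ⟨r, hr⟩ := DFunLike.ne_iff.1
      (Algebra.trace_ne_zero (IsLocalRing.ResidueField P.O) (IsLocalRing.ResidueField Q.O))
    obtain ⟨⟨r0, hr0⟩, rfl⟩ := IsLocalRing.residue_surjective r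
    obtain ⟨z, hz⟩ := exists_approx (insert Q (sum_ramIdx (K' := K') h P).1.toFinset)
      (fun R => if R = Q then r0 else 0) (fun R => if R = Q then -1 else -(ramIdx R P : ℤ))
    have h1 := hz Q (Finset.mem_insert_self _ _)
    rw [if_pos rfl, if_pos rfl] at h1
    have hzQ : val Q z ≤ 1 := by
      rw [show z = (z - r0) + r0 by ring]
      refine ((val Q).map_add _ _).trans (max_le (h1.trans ?_) hr0)
      rw [← exp_zero, exp_le_exp]; omega
    have hJ : IsSmallOff Q P z := ⟨hzQ, fun R hR hne' => by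
      simpa [hne'] using hz R (Finset.mem_insert_of_mem ((sum_ramIdx (K' := K') h P).1.mem_toFinset.2 hR))⟩
    refine ⟨z, hJ, fun hlt => ?_⟩
    have htr := (residue_trace_aux h he hcompat hJ hzQ (hmem hJ)).2
    have hL : IsLocalRing.residue P.O ⟨_, hmem hJ⟩ = 0 := (res_eq_zero_iff P ⟨_, hmem hJ⟩).2 hlt
    have hres : IsLocalRing.residue Q.O ⟨z, hzQ⟩ = IsLocalRing.residue Q.O ⟨r0, hr0⟩ := by
      rw [← sub_eq_zero, ← map_sub]
      exact (res_eq_zero_iff Q _).2 (h1.trans_lt (by rw [← exp_zero, exp_lt_exp]; omega))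
    rw [hL, hres, nsmul_eq_mul, eq_comm, mul_eq_zero] at htr
    exact htr.elim hne hr

end GrothLib.DiffLattice
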