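import Groth.Agent.Lib.DiffLattice.Local
import Groth.Agent.Lib.FunFld.IntMult

/-!
# Euler characteristics in a finite separable extension of function fields

Comparing the integral closures with the lattice spanned by one basis turns the jump of the
constant term of Riemann's theorem into the degree of the different.
-/

set_option autoImplicit false
set_option linter.style.haveILetI false
set_option linter.unusedSectionVars false

namespace GrothLib.DiffLattice

open _root_.FunFld WithZero GrothLib.FunFld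

variable {k K : Type*} [Field k] [Field K] [Algebra k K]

/-- Vectors with entries of bounded order at `P`. -/
def cube (n : ℕ) (P : Place k K) (m : ℤ) : Submodule k (Fin n → K) := Submodule.pi Set.univ fun _ => ball P m

theorem mem_cube {n : ℕ} {P : Place k K} {m : ℤ} {a : Fin n → K} :
    a ∈ cube n P m ↔ ∀ i, val P (a i) ≤ exp m := by
  simp [cube, Submodule.mem_pi, mem_ball]

theorem hasCodim_cube {n : ℕ} (P : Place k K) [Module.Finite k (IsLocalRing.ResidueField P.O)] (m : ℤ) (j : ℕ) :
    HasCodim (cube n P m) (cube n P (m + j)) (n * (j * P.deg)) := by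
  have hb := hasCodim_ball P m j
  haveI := hb.finite
  let f : cube n P (m + j) →ₗ[k] (Fin n → (ball P (m + j) ⧸ (ball P m).comap (ball P (m + j)).subtype)) :=
    { toFun := fun a i => Submodule.Quotient.mk ⟨(a : Fin n → K) i, mem_cube.1 a.2 i⟩
      map_add' := fun a b => rfl
      map_smul' := fun c a => rfl }
  have h := hasCodim_of_pi (W := fun _ : Fin n => (ball P (m + j) ⧸ (ball P m).comap (ball P (m + j)).subtype))
    (A := cube n P m) (fun a ha => mem_cube.2 fun i => (mem_cube.1 ha i).trans (exp_le_exp.2 (by omega))) f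
    (fun w => by
      choose g hg using fun i => Submodule.Quotient.mk_surjective _ (w i)
      exact ⟨⟨fun i => (g i : K), mem_cube.2 fun i => (g i).2⟩, funext fun i => hg i⟩)
    (fun a => by
      rw [mem_cube, funext_iff]
      exact forall_congr' fun i => (Submodule.Quotient.mk_eq_zero _).trans Iff.rfl)
  rwa [Finset.sum_const, hb.finrank_eq, Finset.card_univ, Fintype.card_fin, smul_eq_mul] at h

theorem ord_algebraMap_unit (P : Place k K) {u : P.O} (hu : IsUnit u) : P.ord (u : K) = 0 := by
  obtain ⟨v, rfl⟩ := hu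
  have h1 : val P ((v : P.O) : K) * val P (((v⁻¹ : P.Oˣ) : P.O) : K) = 1 := by
    rw [← map_mul, show ((v : P.O) : K) * ((v⁻¹ : P.Oˣ) : P.O) = ((1 : P.O) : K) from
      congrArg Subtype.val v.mul_inv]
    exact map_one _
  refine ord_eq_of_val_eq P (n := 0) (le_antisymm ((v : P.O).2.trans_eq exp_zero.symm) ?_) |>.trans (by simp)
  rw [exp_zero, ← h1]
  exact mul_le_of_le_one_right' ((v⁻¹ : P.Oˣ) : P.O).2

/-- An integral matrix maps the standard lattice onto one of codimension the order of its determinant. -/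
theorem hasCodim_matrix (h : IsFG k K) (P : Place k K) {n : ℕ} (M : Matrix (Fin n) (Fin n) K)
    (hM : ∀ i j, val P (M i j) ≤ 1) (hdet : M.det ≠ 0) :
    0 ≤ P.ord M.det ∧ HasCodim ((cube n P 0).map (M.mulVecLin.restrictScalars k)) (cube n P 0)
      ((P.ord M.det).toNat * P.deg) := by
  classical
  refine ⟨(val_le_one_iff P hdet).1 (val_det_le_one M hM), ?_⟩
  haveI := isPrincipalIdealRing_O P
  haveI := h.finite_residueField P
  let M0 : Matrix (Fin n) (Fin n) P.O := Matrix.of fun i j => ⟨M i j, hM i j⟩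
  have hM0 : P.O.subtype.mapMatrix M0 = M := rfl
  have hdet0 : ((M0.det : P.O) : K) = M.det := by rw [← hM0, ← RingHom.map_det]; rfl
  let f : (Fin n → P.O) →ₗ[P.O] (Fin n → P.O) := M0.mulVecLin
  have hcoe : ∀ (y : Fin n → P.O) (i : Fin n), ((f y i : P.O) : K) = M.mulVec (fun j => (y j : K)) i := fun y i => by
    simp [f, Matrix.mulVec, dotProduct, M0]
  have hf : Function.Injective f := fun y z hyz => by
    have h1 : M.mulVec (fun j => (y j : K)) = M.mulVec (fun j => (z j : K)) := funext fun i => by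
      rw [← hcoe, ← hcoe, hyz]
    funext j
    exact Subtype.ext (congrFun (Matrix.mulVec_injective_of_isUnit
      ((Matrix.isUnit_iff_isUnit_det _).2 (isUnit_iff_ne_zero.2 hdet)) h1) j)
  obtain ⟨b', a, ab', hab⟩ := Submodule.exists_smith_normal_form_of_rank_eq (N := LinearMap.range f)
    (Pi.basisFun P.O (Fin n)) (LinearMap.finrank_range_of_inj hf)
  have ha0 : ∀ i, a i ≠ 0 := fun i hi => by
    refine ab'.ne_zero i (Subtype.ext ?_)
    rw [hab, hi, zero_smul]; rfl
  have hai : ∀ i, ((a i : P.O) : K) ≠ 0 := fun i h0 => ha0 i (Subtype.ext h0)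
  -- the determinant
  let u : (Fin n → P.O) ≃ₗ[P.O] (Fin n → P.O) := (LinearEquiv.ofInjective f hf).trans (ab'.equiv b' (Equiv.refl _))
  let D : (Fin n → P.O) →ₗ[P.O] (Fin n → P.O) := b'.constr ℕ fun i => a i • b' i
  have hDu : f = D ∘ₗ u.toLinearMap := by
    refine LinearMap.ext fun r => ?_
    have h1 : (LinearMap.range f).subtype = D ∘ₗ (ab'.equiv b' (Equiv.refl _)).toLinearMap :=
      ab'.ext fun i => by
        rw [LinearMap.comp_apply, LinearEquiv.coe_coe, Module.Basis.equiv_apply, Equiv.refl_apply,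
          Module.Basis.constr_basis]
        exact hab i
    exact LinearMap.congr_fun h1 (LinearEquiv.ofInjective f hf r)
  have hdetD : M0.det = (∏ i, a i) * LinearMap.det u.toLinearMap := by
    rw [← LinearMap.det_toLin' M0, show Matrix.toLin' M0 = f from rfl, hDu, LinearMap.det_comp]
    congr 1
    rw [← LinearMap.det_toMatrix b']
    have : LinearMap.toMatrix b' b' D = Matrix.diagonal a := by
      ext i j
      rw [LinearMap.toMatrix_apply, Module.Basis.constr_basis, map_smul, Module.Basis.repr_self,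
        Finsupp.smul_apply, Finsupp.single_apply, Matrix.diagonal_apply, smul_eq_mul]
      by_cases hij : i = j
      · subst hij; simp
      · rw [if_neg (Ne.symm hij), if_neg hij, mul_zero]
    rw [this, Matrix.det_diagonal]
  have hord : P.ord M.det = ∑ i, P.ord ((a i : P.O) : K) := by
    have hprod : ∀ s : Finset (Fin n), (∏ i ∈ s, ((a i : P.O) : K)) ≠ 0 ∧
        P.ord (∏ i ∈ s, ((a i : P.O) : K)) = ∑ i ∈ s, P.ord ((a i : P.O) : K) := by
      intro s
      induction s using Finset.induction with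
      | empty => simp
      | insert i s hi ih =>
        rw [Finset.prod_insert hi, Finset.sum_insert hi]
        exact ⟨mul_ne_zero (hai i) ih.1, by rw [ord_mul P (hai i) ih.1, ih.2]⟩
    obtain ⟨h0, h1⟩ := hprod Finset.univ
    have hu : IsUnit (LinearMap.det u.toLinearMap) := LinearEquiv.isUnit_det' u
    rw [← hdet0, hdetD, MulMemClass.coe_mul, SubmonoidClass.coe_finsetProd,
      ord_mul P h0 (fun h0 => hu.ne_zero (Subtype.ext h0)), ord_algebraMap_unit P hu, add_zero, h1]
  have hpos : ∀ i, 0 ≤ P.ord ((a i : P.O) : K) := fun i => (val_le_one_iff P (hai i)).1 (a i).2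
  have hball : ∀ i, HasCodim (ball P (-P.ord ((a i : P.O) : K))) (ball P 0)
      ((P.ord ((a i : P.O) : K)).toNat * P.deg) := fun i => by
    have := hasCodim_ball P (-P.ord ((a i : P.O) : K)) (P.ord ((a i : P.O) : K)).toNat
    have h0 := hpos i
    rwa [show -P.ord ((a i : P.O) : K) + ((P.ord ((a i : P.O) : K)).toNat : ℤ) = 0 by omega] at this
  haveI : ∀ i, Module.Finite k (ball P 0 ⧸ (ball P (-P.ord ((a i : P.O) : K))).comap (ball P 0).subtype) :=
    fun i => (hball i).finite
  let lift : cube n P 0 → (Fin n → P.O) := fun x i => ⟨(x : Fin n → K) i, (mem_cube.1 x.2 i).trans_eq exp_zero⟩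
  have hO0 : ∀ o : P.O, (o : K) ∈ ball P 0 := fun o => by rw [mem_ball, exp_zero]; exact o.2
  let co : cube n P 0 →ₗ[k] (∀ i, (ball P 0 ⧸ (ball P (-P.ord ((a i : P.O) : K))).comap (ball P 0).subtype)) :=
    { toFun := fun x i => Submodule.Quotient.mk ⟨(b'.repr (lift x) i : K), hO0 _⟩
      map_add' := fun x y => funext fun i => by
        rw [Pi.add_apply, ← Submodule.Quotient.mk_add]
        congr 1
        refine Subtype.ext ?_
        rw [show lift (x + y) = lift x + lift y from rfl, map_add, Finsupp.add_apply]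
        rfl
      map_smul' := fun c x => funext fun i => by
        rw [RingHom.id_apply, Pi.smul_apply, ← Submodule.Quotient.mk_smul]
        congr 1
        refine Subtype.ext ?_
        rw [show lift (c • x) = algebraMap k P.O c • lift x from funext fun j => Subtype.ext (by
            show (c • (x : Fin n → K)) j = ((algebraMap k P.O c : P.O) : K) * (x : Fin n → K) j
            rw [algebraMap_O_coe, Pi.smul_apply, Algebra.smul_def]), map_smul, Finsupp.smul_apply, smul_eq_mul]
        show ((algebraMap k P.O c : P.O) : K) * _ = c • _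
        rw [algebraMap_O_coe, Algebra.smul_def] }
  have hsurj : Function.Surjective co := fun w => by
    choose g hg using fun i => Submodule.Quotient.mk_surjective _ (w i)
    let y : Fin n → P.O := ∑ i, (⟨(g i : K), (mem_ball.1 (g i).2).trans_eq exp_zero⟩ : P.O) • b' i
    refine ⟨⟨fun i => (y i : K), mem_cube.2 fun i => (y i).2.trans_eq exp_zero.symm⟩, funext fun i => ?_⟩
    show Submodule.Quotient.mk _ = _
    rw [← hg i]
    congr 1
    refine Subtype.ext ?_
    show ((b'.repr y i : P.O) : K) = _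
    rw [b'.repr_sum_self]
  have hker : ∀ x : cube n P 0, co x = 0 ↔ (x : Fin n → K) ∈ (cube n P 0).map (M.mulVecLin.restrictScalars k) := by
    intro x
    have h1 : co x = 0 ↔ ∀ i, a i ∣ b'.repr (lift x) i := by
      rw [funext_iff]
      refine forall_congr' fun i => (Submodule.Quotient.mk_eq_zero _).trans ?_
      show val P ((b'.repr (lift x) i : P.O) : K) ≤ exp (-P.ord ((a i : P.O) : K)) ↔ _
      rw [← val_eq P (hai i)]
      constructor
      · intro hle
        refine ⟨⟨((b'.repr (lift x) i : P.O) : K) / ((a i : P.O) : K), ?_⟩, Subtype.ext (mul_div_cancel₀ _ (hai i)).symm⟩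
        rw [mem_O_iff, map_div₀, div_le_one₀ (zero_lt_iff.2 ((val P).ne_zero_iff.2 (hai i)))]
        exact hle
      · rintro ⟨c, hc⟩
        rw [hc, MulMemClass.coe_mul, map_mul]
        exact mul_le_of_le_one_right' c.2
    have h2 : (∀ i, a i ∣ b'.repr (lift x) i) ↔ lift x ∈ LinearMap.range f := by
      constructor
      · intro hd
        choose c hc using hd
        rw [← b'.sum_repr (lift x)]
        refine sum_mem fun i _ => ?_
        rw [hc i, mul_comm, mul_smul, ← hab]
        exact Submodule.smul_mem _ _ (ab' i).2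
      · intro hx i
        refine ⟨ab'.repr ⟨_, hx⟩ i, ?_⟩
        have := congrArg Subtype.val (ab'.sum_repr ⟨_, hx⟩)
        rw [Submodule.coe_sum] at this
        conv_lhs => rw [← show _ = lift x from this]
        simp only [Submodule.coe_smul, hab, smul_smul]
        rw [b'.repr_sum_self, mul_comm]
    rw [h1, h2]
    constructor
    · rintro ⟨y, hy⟩
      refine ⟨fun i => (y i : K), mem_cube.2 fun i => (y i).2.trans_eq exp_zero.symm, funext fun i => ?_⟩
      have := congrArg (fun v : Fin n → P.O => ((v i : P.O) : K)) hy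
      simp only [lift, f, Matrix.mulVecLin_apply] at this
      rw [← this]
      show (M.mulVec fun i => (y i : K)) i = _
      simp [Matrix.mulVec, dotProduct, M0]
    · rintro ⟨y, hy, hyx⟩
      refine ⟨fun i => ⟨y i, (mem_cube.1 hy i).trans_eq exp_zero⟩, funext fun i => Subtype.ext ?_⟩
      show _ = (x : Fin n → K) i
      rw [← hyx]
      simp [f, Matrix.mulVecLin_apply, Matrix.mulVec, dotProduct, M0]
  have hle : (cube n P 0).map (M.mulVecLin.restrictScalars k) ≤ cube n P 0 := by
    rintro _ ⟨y, hy, rfl⟩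
    refine mem_cube.2 fun i => ?_
    show val P ((M.mulVec y) i) ≤ _
    rw [Matrix.mulVec, dotProduct]
    refine (val P).map_sum_le fun j _ => ?_
    rw [map_mul]
    exact (mul_le_of_le_one_left' (hM i j)).trans (mem_cube.1 hy j)
  have := hasCodim_of_pi (W := fun i => ball P 0 ⧸ (ball P (-P.ord ((a i : P.O) : K))).comap (ball P 0).subtype)
    hle co hsurj hker
  rw [Finset.sum_congr rfl fun i _ => (hball i).finrank_eq, ← Finset.sum_mul] at this
  have hsum : (∑ i, (P.ord ((a i : P.O) : K)).toNat) = (P.ord M.det).toNat := by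
    have h1 : ((∑ i, (P.ord ((a i : P.O) : K)).toNat : ℕ) : ℤ) = P.ord M.det := by
      rw [hord, Nat.cast_sum]
      exact Finset.sum_congr rfl fun i _ => Int.toNat_of_nonneg (hpos i)
    omega
  rwa [hsum] at this

/-- Finitely many local conditions cost at most their codimensions. -/
theorem finrank_le_add_sum {ι V : Type*} [AddCommGroup V] [Module k V] (S : Finset ι) (G G' : Submodule k V)
    [FiniteDimensional k G'] (A B : ι → Submodule k V) (c : ι → ℕ) (hc : ∀ i ∈ S, HasCodim (A i) (B i) (c i))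
    (hB : ∀ i ∈ S, G' ≤ B i) (hA : ∀ x ∈ G', (∀ i ∈ S, x ∈ A i) → x ∈ G) (hle : G ≤ G') :
    Module.finrank k G' ≤ Module.finrank k G + ∑ i ∈ S, c i := by
  classical
  haveI : ∀ i : S, Module.Finite k (B i ⧸ (A i).comap (B i).subtype) := fun i => (hc i.1 i.2).finite
  let f : G' →ₗ[k] (∀ i : S, B i ⧸ (A i).comap (B i).subtype) :=
    LinearMap.pi fun i => (Submodule.mkQ _).comp (Submodule.inclusion (hB i.1 i.2))
  have hker : LinearMap.ker f ≤ G.comap G'.subtype := fun x hx => hA _ x.2 fun i hi =>
    (Submodule.Quotient.mk_eq_zero _ (x := Submodule.inclusion (hB i hi) x)).1 (congrFun hx ⟨i, hi⟩)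
  have h1 := f.finrank_range_add_finrank_ker
  have h2 : Module.finrank k (LinearMap.range f) ≤ ∑ i ∈ S, c i := by
    refine (Submodule.finrank_le _).trans_eq ?_
    rw [Module.finrank_pi_fintype, ← Finset.sum_coe_sort S c]
    exact Finset.sum_congr rfl fun i _ => (hc i.1 i.2).finrank_eq
  have h3 : Module.finrank k (LinearMap.ker f) ≤ Module.finrank k G :=
    (Submodule.finrank_mono hker).trans_eq (Submodule.comapSubtypeEquivOfLe hle).finrank_eq
  omega

variable {K' : Type*} [Field K'] [Algebra K K'] [Algebra k K'] [IsScalarTower k K K'] [FiniteDimensional K K']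

theorem exists_intBasis_fin (h : IsFG k K) (P : Place k K) :
    ∃ c : Module.Basis (Fin (Module.finrank K K')) K K', IsIntBasis K' P c := by
  obtain ⟨n, c, hc⟩ := exists_intBasis (K' := K') h P
  refine ⟨c.reindex (finCongr (Module.finrank_eq_card_basis c ▸ Fintype.card_fin n).symm), fun x => ?_⟩
  rw [hc x]
  simp only [Module.Basis.repr_reindex_apply]
  exact ⟨fun h i => h _, fun h i => by
    have := h ((finCongr (Module.finrank_eq_card_basis c ▸ Fintype.card_fin n).symm) i)
    rwa [Equiv.symm_apply_apply] at this⟩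

theorem mem_L_conorm_iff (h : IsFG k K) {D : Divisor k K} {x : K'} :
    x ∈ L (conorm K' D) ↔ ∀ (P : Place k K) (Q : Place k K'), IsOver Q P →
      val Q x ≤ exp ((ramIdx Q P : ℤ) * D P) := by
  rw [FunFld.mem_L_iff]
  constructor
  · intro hx P Q hQ
    have h1 := hx Q
    rwa [conorm_apply h (ramIdx_spec hQ)] at h1
  · intro hx Q
    obtain ⟨P, e, -, he⟩ := exists_isOverWith (K := K) Q
    rw [conorm_apply h he]
    have := hx P Q ⟨e, he⟩
    rwa [ramIdx_eq he] at this

variable [Algebra.IsSeparable K K']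

theorem isIntBasis_of_unit (h : IsFG k K) {P : Place k K} {n : ℕ} {b : Module.Basis (Fin n) K K'}
    (hb : ∀ i (Q : Place k K'), IsOver Q P → val Q (b i) ≤ 1)
    (hG : ∀ i j, val P ((Algebra.traceMatrix K b)⁻¹ i j) ≤ 1) : IsIntBasis K' P b := by
  intro x
  constructor
  · intro hx i
    have hdet : IsUnit (Algebra.traceMatrix K b).det := by
      rw [← Algebra.discr_def]; exact isUnit_iff_ne_zero.2 (Algebra.discr_not_zero_of_basis K b)
    have h1 : b.equivFun x = (Algebra.traceMatrix K b)⁻¹.mulVec fun j => Algebra.trace K K' (x * b j) := by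
      rw [← Algebra.traceMatrix_of_basis_mulVec, Matrix.mulVec_mulVec, Matrix.nonsing_inv_mul _ hdet,
        Matrix.one_mulVec]
    rw [← Module.Basis.equivFun_apply, h1, Matrix.mulVec, dotProduct]
    refine (val P).map_sum_le fun j _ => ?_
    rw [map_mul]
    refine mul_le_one' (hG i j) ?_
    have := isDual_one (K' := K') h (P := P) (x * b j) fun Q hQ => by
      rw [map_mul]; exact mul_le_one' (hx Q hQ) (hb j Q hQ)
    rwa [one_mul] at this
  · intro hx Q hQ
    rw [← b.sum_repr x]
    refine (val Q).map_sum_le fun i _ => ?_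
    rw [Algebra.smul_def, map_mul]
    exact mul_le_one' ((val_le_one_iff_of_isOverWith (ramIdx_spec hQ) _).2 (hx i)) (hb i Q hQ)

/-- Hurwitz: the constant terms of Riemann's theorem differ by the degree of the different. -/
theorem hurwitz (h : IsFG k K) (cK cL : ℤ)
    (hK : ∃ D₀ : Divisor k K, ∀ D, D₀ ≤ D → (ell D : ℤ) = D.deg + cK)
    (hL : ∃ D₀ : Divisor k K', ∀ D, D₀ ≤ D → (ell D : ℤ) = D.deg + cL) :
    ∃ d : Place k K' → ℕ, (Function.support d).Finite ∧ (∀ P : Place k K, IsDiffExp P d) ∧
      2 * cL = 2 * (Module.finrank K K' : ℤ) * cK - ∑ᶠ Q : Place k K', (d Q : ℤ) * Q.deg := by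
  classical
  have h' : IsFG k K' := isFG_extension (K := K) h
  set n := Module.finrank K K' with hn
  let b : Module.Basis (Fin n) K K' := Module.finBasis K K'
  choose c hc using exists_intBasis_fin (K' := K') h
  choose dP hdP0 hdP using fun P : Place k K => exists_isDiffExp (K' := K') h P
  choose below eQ heQ hbelow using fun Q : Place k K' => exists_isOverWith (K := K) Q
  set d : Place k K' → ℕ := fun Q => dP (below Q) Q with hd
  have hbelow_eq : ∀ {Q : Place k K'} {P : Place k K}, IsOver Q P → below Q = P := fun {Q P} hQ =>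
    (isOverWith_unique (hbelow Q) (ramIdx_spec hQ)).1
  have hdd : ∀ P : Place k K, IsDiffExp P d := fun P x => by
    refine (hdP P x).trans (forall_congr' fun Q => imp_congr_right fun hQ => ?_)
    simp only [hd, hbelow_eq hQ]
  -- the bad places
  set T : Place k K → Matrix (Fin n) (Fin n) K := fun P => (c P).toMatrix b with hT
  have hTinv : ∀ P, T P * b.toMatrix (c P) = 1 := fun P => (c P).toMatrix_mul_toMatrix_flip b
  have hTdet : ∀ P, (T P).det ≠ 0 := fun P h0 => by
    have := congrArg Matrix.det (hTinv P)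
    rw [Matrix.det_mul, h0, zero_mul, Matrix.det_one] at this
    exact zero_ne_one this
  set good : Place k K → Prop := fun P => IsIntBasis K' P b with hgood
  have hbad : {P | ¬ good P}.Finite := by
    have hfinK : ∀ z : K, {P : Place k K | ¬ val P z ≤ 1}.Finite := fun z => by
      refine (h.finite_support_ord z).subset fun P hP => ?_
      have hz : z ≠ 0 := fun h0 => hP (by simp [h0])
      intro h0
      exact hP ((val_le_one_iff P hz).2 (le_of_eq h0.symm))
    have hfinK' : ∀ z : K', (below '' {Q : Place k K' | ¬ val Q z ≤ 1}).Finite := fun z => by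
      refine ((h'.finite_support_ord z).subset fun Q hQ => ?_).image _
      have hz : z ≠ 0 := fun h0 => hQ (by simp [h0])
      intro h0
      exact hQ ((val_le_one_iff Q hz).2 (le_of_eq h0.symm))
    refine (((Set.finite_iUnion fun i : Fin n => hfinK' (b i))).union
      (Set.finite_iUnion fun i : Fin n => Set.finite_iUnion fun j : Fin n =>
        hfinK ((Algebra.traceMatrix K b)⁻¹ i j))).subset fun P hP => ?_
    by_contra hno
    refine hP (isIntBasis_of_unit h (fun i Q hQ => ?_) fun i j => ?_)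
    · by_contra hlt
      exact hno (Or.inl (Set.mem_iUnion.2 ⟨i, Q, hlt, hbelow_eq hQ⟩))
    · by_contra hlt
      exact hno (Or.inr (Set.mem_iUnion.2 ⟨i, Set.mem_iUnion.2 ⟨j, hlt⟩⟩))
  set S := hbad.toFinset with hS
  -- a common bound
  have hbound : ∃ m : ℕ, ∀ P ∈ S, ∀ i j, val P (T P i j) ≤ exp (m : ℤ) ∧ val P (b.toMatrix (c P) i j) ≤ exp (m : ℤ) := by
    choose N hN using fun (P : Place k K) (z : K) => show ∃ N : ℕ, val P z ≤ exp (N : ℤ) by
      rcases eq_or_ne z 0 with rfl | hz
      · exact ⟨0, by simp⟩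
      · exact ⟨(-P.ord z).toNat, by rw [val_eq P hz, exp_le_exp]; omega⟩
    refine ⟨∑ P ∈ S, ∑ i, ∑ j, (N P (T P i j) + N P (b.toMatrix (c P) i j)), fun P hP i j => ?_⟩
    have hle : N P (T P i j) + N P (b.toMatrix (c P) i j) ≤
        ∑ P ∈ S, ∑ i, ∑ j, (N P (T P i j) + N P (b.toMatrix (c P) i j)) :=
      le_trans (le_trans (Finset.single_le_sum (f := fun j => N P (T P i j) + N P (b.toMatrix (c P) i j))
        (fun _ _ => Nat.zero_le _) (Finset.mem_univ j))
        (Finset.single_le_sum (f := fun i => ∑ j, (N P (T P i j) + N P (b.toMatrix (c P) i j)))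
          (fun _ _ => Nat.zero_le _) (Finset.mem_univ i)))
        (Finset.single_le_sum (f := fun P => ∑ i, ∑ j, (N P (T P i j) + N P (b.toMatrix (c P) i j)))
          (fun _ _ => Nat.zero_le _) hP)
    exact ⟨(hN P _).trans (exp_le_exp.2 (by exact_mod_cast le_trans (Nat.le_add_right _ _) hle)),
      (hN P _).trans (exp_le_exp.2 (by exact_mod_cast le_trans (Nat.le_add_left _ _) hle))⟩
  obtain ⟨m, hm⟩ := hbound
  -- the divisor `E` and a big divisor `D`
  set E : Divisor k K := ∑ P ∈ S, Finsupp.single P (m : ℤ) with hE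
  have hEapply : ∀ P, E P = if P ∈ S then (m : ℤ) else 0 := fun P => by
    rw [hE, Finsupp.finsetSum_apply]
    simp [Finsupp.single_apply]
  obtain ⟨D₀, hD₀⟩ := hK
  obtain ⟨F₀, hF₀⟩ := hL
  set D₁ : Divisor k K := ∑ Q ∈ F₀.support, Finsupp.single (below Q) |F₀ Q| with hD₁
  set D : Divisor k K := (D₀ ⊔ D₁ ⊔ 0) + E with hDdef
  have hE0 : 0 ≤ E := fun P => by rw [hEapply]; split_ifs <;> simp
  have hD0E : D₀ ≤ D - E := by rw [hDdef, add_sub_cancel_right]; exact le_sup_left.trans le_sup_left
  have hD0E' : D₀ ≤ D + E := hD0E.trans ((sub_le_self D hE0).trans (le_add_of_nonneg_right hE0))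
  have hF : F₀ ≤ conorm K' D := fun Q => by
    rw [conorm_apply h (hbelow Q)]
    by_cases hQ : Q ∈ F₀.support
    · have h1 : |F₀ Q| ≤ D₁ (below Q) := by
        rw [hD₁, Finsupp.finsetSum_apply]
        refine le_trans (by simp) (Finset.single_le_sum (fun R _ => ?_) hQ)
        rw [Finsupp.single_apply]; split_ifs <;> simp
      have h2 : D₁ (below Q) ≤ D (below Q) := by
        rw [hDdef]
        exact ((le_sup_right.trans le_sup_left : D₁ ≤ D₀ ⊔ D₁ ⊔ 0).trans (le_add_of_nonneg_right hE0)) _
      have h3 := le_abs_self (F₀ Q)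
      have h4 : (1 : ℤ) ≤ eQ Q := by exact_mod_cast heQ Q
      nlinarith [abs_nonneg (F₀ Q)]
    · rw [Finsupp.notMem_support_iff.1 hQ]
      have h2 : (0 : Divisor k K) ≤ D := le_sup_right.trans (le_add_of_nonneg_right hE0)
      exact mul_nonneg (Int.natCast_nonneg _) (h2 _)
  -- the lattices
  let Φ : (Fin n → K) ≃ₗ[k] K' := b.equivFun.symm.restrictScalars k
  let σ : Place k K → K := fun P => (exists_val_eq P (D P)).choose
  have hσ : ∀ P, σ P ≠ 0 ∧ val P (σ P) = exp (D P) := fun P => (exists_val_eq P (D P)).choose_spec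
  let lam : (P : Place k K) → (Fin n → K) →ₗ[k] (Fin n → K) := fun P =>
    (((σ P)⁻¹ • T P).mulVecLin).restrictScalars k
  let Λ : Place k K → Submodule k (Fin n → K) := fun P => (cube n P 0).comap (lam P)
  have hlam : ∀ P a i, lam P a i = (σ P)⁻¹ * (c P).repr (Φ a) i := fun P a i => by
    show ((σ P)⁻¹ • T P).mulVec a i = _
    rw [Matrix.smul_mulVec, Pi.smul_apply, smul_eq_mul]
    congr 1
    show (T P).mulVec a i = (c P).equivFun (b.equivFun.symm a) i
    have h2 := congrFun (b.toMatrix_mulVec_repr (c P) (b.equivFun.symm a)) i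
    rw [show ⇑(b.repr (b.equivFun.symm a)) = a from b.equivFun.apply_symm_apply a] at h2
    exact h2
  have hΛ : ∀ P a, a ∈ Λ P ↔ ∀ Q, IsOver Q P → val Q (Φ a) ≤ exp ((ramIdx Q P : ℤ) * D P) := fun P a => by
    rw [Submodule.mem_comap, mem_cube]
    have h1 : (∀ i, val P ((c P).repr ((algebraMap K K' (σ P))⁻¹ * Φ a) i) ≤ 1) ↔ ∀ i, val P (lam P a i) ≤ exp 0 := by
      refine forall_congr' fun i => ?_
      rw [hlam, exp_zero, ← map_inv₀, ← Algebra.smul_def, map_smul, Finsupp.smul_apply, smul_eq_mul]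
    rw [← h1, ← hc P]
    refine forall_congr' fun Q => imp_congr_right fun hQ => ?_
    rw [map_mul, map_inv₀, show val Q (algebraMap K K' (σ P)) = val P (σ P) ^ ramIdx Q P from ramIdx_spec hQ _,
      (hσ P).2, ← exp_nsmul, nsmul_eq_mul, inv_mul_le_one₀ (zero_lt_iff.2 exp_ne_zero)]
  have hΛgood : ∀ P ∉ S, ∀ a, a ∈ Λ P ↔ a ∈ cube n P (D P) := fun P hP a => by
    have hg : IsIntBasis K' P b := by
      by_contra hng; exact hP (hbad.mem_toFinset.2 hng)
    have hsc : ∀ i, b.repr ((algebraMap K K' (σ P))⁻¹ * Φ a) i = (σ P)⁻¹ * a i := fun i => by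
      rw [← map_inv₀, ← Algebra.smul_def, map_smul, Finsupp.smul_apply, smul_eq_mul]
      congr 1
      exact congrFun (b.equivFun.apply_symm_apply a) i
    rw [hΛ, mem_cube]
    have h1 := hg ((algebraMap K K' (σ P))⁻¹ * Φ a)
    simp only [hsc, map_mul, map_inv₀, (hσ P).2, inv_mul_le_one₀ (zero_lt_iff.2 (exp_ne_zero (a := D P)))] at h1
    rw [← h1]
    refine forall_congr' fun Q => imp_congr_right fun hQ => ?_
    rw [show val Q (algebraMap K K' (σ P)) = val P (σ P) ^ ramIdx Q P from ramIdx_spec hQ _, (hσ P).2,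
      ← exp_nsmul, nsmul_eq_mul, inv_mul_le_one₀ (zero_lt_iff.2 exp_ne_zero)]
  -- local codimensions
  set ι : Place k K → ℤ := fun P => P.ord (T P).det with hι
  have hloc : ∀ P ∈ S, ∃ p q : ℕ, HasCodim (cube n P (D P - m)) (Λ P) p ∧ HasCodim (Λ P) (cube n P (D P + m)) q ∧
      p + q = n * ((2 * m) * P.deg) ∧ (p : ℤ) = ((n * m : ℕ) + ι P) * P.deg := by
    intro P hP
    haveI := h.finite_residueField P
    obtain ⟨π, hπ0, hπ⟩ := exists_val_eq P (-(m : ℤ))
    set M := π • T P with hMdef
    have hM1 : ∀ i j, val P (M i j) ≤ 1 := fun i j => by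
      rw [hMdef, Matrix.smul_apply, smul_eq_mul, map_mul, hπ]
      refine (mul_le_mul_right (hm P hP i j).1 _).trans ?_
      rw [← exp_add, neg_add_cancel, exp_zero]
    have hMdet : M.det = π ^ n * (T P).det := by rw [hMdef, Matrix.det_smul, Fintype.card_fin]
    have hMdet0 : M.det ≠ 0 := hMdet ▸ mul_ne_zero (pow_ne_zero _ hπ0) (hTdet P)
    obtain ⟨hpos, hcod⟩ := hasCodim_matrix h P M hM1 hMdet0
    have hlam_inj : Function.Injective (lam P) := by
      refine Matrix.mulVec_injective_of_isUnit ((Matrix.isUnit_iff_isUnit_det _).2 (isUnit_iff_ne_zero.2 ?_))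
      rw [Matrix.det_smul]
      exact mul_ne_zero (pow_ne_zero _ (inv_ne_zero (hσ P).1)) (hTdet P)
    let μ : (Fin n → K) →ₗ[k] (Fin n → K) :=
      ((σ P • b.toMatrix (c P)).mulVecLin).restrictScalars k
    have hμ : ∀ a, lam P (μ a) = a := fun a => by
      show ((σ P)⁻¹ • T P).mulVec ((σ P • b.toMatrix (c P)).mulVec a) = a
      rw [Matrix.mulVec_mulVec, Matrix.smul_mul, Matrix.mul_smul, smul_smul, inv_mul_cancel₀ (hσ P).1, one_smul,
        hTinv, Matrix.one_mulVec]
    have hcube : (cube n P (D P - m)).map (lam P) = (cube n P 0).map (M.mulVecLin.restrictScalars k) := by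
      have key : ∀ a : Fin n → K, ((σ P)⁻¹ • T P).mulVec a = M.mulVec (fun i => (σ P)⁻¹ * π⁻¹ * a i) := fun a => by
        rw [show (fun i => (σ P)⁻¹ * π⁻¹ * a i) = ((σ P)⁻¹ * π⁻¹) • a from rfl, Matrix.mulVec_smul, hMdef,
          Matrix.smul_mulVec, Matrix.smul_mulVec, smul_smul]
        congr 1
        field_simp
      ext y
      constructor
      · rintro ⟨a, ha, rfl⟩
        refine ⟨fun i => (σ P)⁻¹ * π⁻¹ * a i, mem_cube.2 fun i => ?_, (key a).symm⟩
        rw [map_mul, map_mul, map_inv₀, map_inv₀, (hσ P).2, hπ, ← exp_neg, ← exp_neg, ← exp_add]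
        refine (mul_le_mul_right (mem_cube.1 ha i) _).trans ?_
        rw [← exp_add, exp_le_exp]; omega
      · rintro ⟨a, ha, rfl⟩
        refine ⟨fun i => σ P * π * a i, mem_cube.2 fun i => ?_, ?_⟩
        · rw [map_mul, map_mul, (hσ P).2, hπ, ← exp_add]
          refine (mul_le_mul_right (mem_cube.1 ha i) _).trans ?_
          rw [← exp_add, exp_le_exp]; omega
        · show ((σ P)⁻¹ • T P).mulVec _ = M.mulVec a
          rw [key]
          congr 1
          funext i
          field_simp [(hσ P).1, hπ0]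
    have hΛmap : (Λ P).map (lam P) = cube n P 0 := by
      refine le_antisymm (Submodule.map_comap_le _ _) fun y hy => ⟨μ y, ?_, hμ y⟩
      show lam P (μ y) ∈ cube n P 0
      rw [hμ]; exact hy
    have h1 : HasCodim ((cube n P (D P - m)).map (lam P)) ((Λ P).map (lam P)) ((P.ord M.det).toNat * P.deg) := by
      rw [hcube, hΛmap]; exact hcod
    have h1' := IntMult.hasCodim_map h1 μ (fun a a' haa => by rw [← hμ a, ← hμ a', haa])
    have hback : ∀ W : Submodule k (Fin n → K), (W.map (lam P)).map μ = W := fun W => by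
      ext y
      constructor
      · rintro ⟨_, ⟨a, ha, rfl⟩, rfl⟩
        rwa [hlam_inj (hμ (lam P a))]
      · intro hy
        exact ⟨lam P y, ⟨y, hy, rfl⟩, hlam_inj (hμ _)⟩
    rw [hback, hback] at h1'
    have hup : Λ P ≤ cube n P (D P + m) := fun a ha => by
      rw [Submodule.mem_comap] at ha
      have e : a = μ (lam P a) := hlam_inj (hμ _).symm
      rw [e]
      refine mem_cube.2 fun i => ?_
      show val P (((σ P • b.toMatrix (c P)).mulVec (lam P a)) i) ≤ _
      rw [Matrix.mulVec, dotProduct]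
      refine (val P).map_sum_le fun j _ => ?_
      rw [Matrix.smul_apply, smul_eq_mul, map_mul, map_mul, (hσ P).2]
      refine (mul_le_mul' (mul_le_mul' le_rfl (hm P hP i j).2) (mem_cube.1 ha j)).trans ?_
      rw [exp_zero, mul_one, ← exp_add]
    have htot : HasCodim (cube n P (D P - m)) (cube n P (D P + m)) (n * ((2 * m) * P.deg)) := by
      have := hasCodim_cube (n := n) P (D P - m) (2 * m)
      rwa [show D P - (m : ℤ) + ((2 * m : ℕ) : ℤ) = D P + m by push_cast; ring] at this
    obtain ⟨p, q, hp, hq, hpq⟩ := htot.split h1'.le hup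
    refine ⟨p, q, hp, hq, hpq, ?_⟩
    rw [hp.unique h1', Nat.cast_mul, Int.toNat_of_nonneg hpos, hMdet, ord_mul P (pow_ne_zero _ hπ0) (hTdet P),
      ord_pow, ord_eq_of_val_eq P hπ]
    push_cast; ring
  choose! p q hp hq hpq hpι using hloc
  -- global dimensions
  let G : Submodule k (Fin n → K) := (L (conorm K' D)).comap Φ.toLinearMap
  have hG : ∀ a, a ∈ G ↔ ∀ P, a ∈ Λ P := fun a => by
    rw [Submodule.mem_comap, mem_L_conorm_iff h]
    exact forall_congr' fun P => (hΛ P a).symm
  let Gof : Divisor k K → Submodule k (Fin n → K) := fun A => Submodule.pi Set.univ fun _ => L A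
  have hGof : ∀ A a, a ∈ Gof A ↔ ∀ P, a ∈ cube n P (A P) := fun A a => by
    simp only [Gof, Submodule.mem_pi, Set.mem_univ, forall_const, FunFld.mem_L_iff, mem_cube]
    exact forall_comm
  have hGof_dim : ∀ A, FiniteDimensional k (Gof A) ∧ Module.finrank k (Gof A) = n * ell A := fun A => by
    let e : Gof A ≃ₗ[k] (Fin n → L A) :=
      { toFun := fun a i => ⟨(a : Fin n → K) i, a.2 i trivial⟩
        invFun := fun v => ⟨fun i => (v i : K), fun i _ => (v i).2⟩
        map_add' := fun _ _ => rfl
        map_smul' := fun _ _ => rfl }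
    haveI := h.finite_L A
    refine ⟨Module.Finite.equiv e.symm, ?_⟩
    rw [e.finrank_eq, Module.finrank_pi_fintype, Finset.sum_const, Finset.card_univ, Fintype.card_fin, smul_eq_mul]
    rfl
  haveI := h'.finite_L (conorm K' D)
  let eG : G ≃ₗ[k] L (conorm K' D) :=
    { toFun := fun a => ⟨Φ a, a.2⟩
      invFun := fun v => ⟨Φ.symm v, by
        show Φ (Φ.symm v) ∈ L (conorm K' D)
        rw [LinearEquiv.apply_symm_apply]; exact v.2⟩
      map_add' := fun a a' => Subtype.ext (map_add Φ _ _)
      map_smul' := fun r a => Subtype.ext (map_smul Φ _ _)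
      left_inv := fun a => Subtype.ext (Φ.symm_apply_apply _)
      right_inv := fun v => Subtype.ext (Φ.apply_symm_apply _) }
  haveI : FiniteDimensional k G := Module.Finite.equiv eG.symm
  haveI := (hGof_dim (D + E)).1
  have hsub : Gof (D - E) ≤ G := fun a ha => (hG a).2 fun P => by
    have h1 := (hGof _ a).1 ha P
    rw [Finsupp.sub_apply, hEapply] at h1
    by_cases hP : P ∈ S
    · rw [if_pos hP] at h1; exact (hp P hP).le h1
    · rw [if_neg hP, sub_zero] at h1; exact (hΛgood P hP a).2 h1
  have hsup : G ≤ Gof (D + E) := fun a ha => (hGof _ a).2 fun P => by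
    have h1 := (hG a).1 ha P
    rw [Finsupp.add_apply, hEapply]
    by_cases hP : P ∈ S
    · rw [if_pos hP]; exact (hq P hP).le h1
    · rw [if_neg hP, add_zero]; exact (hΛgood P hP a).1 h1
  have e1 := finrank_le_add_sum S (Gof (D - E)) G (fun P => cube n P (D P - m)) Λ p (fun P hP => hp P hP)
    (fun P _ a ha => (hG a).1 ha P) (fun a ha hS => (hGof _ a).2 fun P => by
      rw [Finsupp.sub_apply, hEapply]
      by_cases hP : P ∈ S
      · rw [if_pos hP]; exact hS P hP
      · rw [if_neg hP, sub_zero]; exact (hΛgood P hP a).1 ((hG a).1 ha P)) hsub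
  have e2 := finrank_le_add_sum S G (Gof (D + E)) Λ (fun P => cube n P (D P + m)) q (fun P hP => hq P hP)
    (fun P hP a ha => by
      have h1 := (hGof _ a).1 ha P
      rwa [Finsupp.add_apply, hEapply, if_pos hP] at h1)
    (fun a ha hS => (hG a).2 fun P => by
      by_cases hP : P ∈ S
      · exact hS P hP
      · have h1 := (hGof _ a).1 ha P
        rw [Finsupp.add_apply, hEapply, if_neg hP, add_zero] at h1
        exact (hΛgood P hP a).2 h1) hsup
  have hdimG : (Module.finrank k G : ℤ) = (n : ℤ) * D.deg + cL := by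
    rw [eG.finrank_eq]
    exact (hF₀ _ hF).trans (by rw [deg_conorm h])
  have hdimM : (Module.finrank k (Gof (D - E)) : ℤ) = n * ((D - E).deg + cK) := by
    rw [(hGof_dim _).2, Nat.cast_mul, hD₀ _ hD0E]
  have hdimP : (Module.finrank k (Gof (D + E)) : ℤ) = n * ((D + E).deg + cK) := by
    rw [(hGof_dim _).2, Nat.cast_mul, hD₀ _ hD0E']
  have hdegE : E.deg = ∑ P ∈ S, (m : ℤ) * P.deg := by rw [hE, deg_sum]; simp
  have hpq' : (∑ P ∈ S, (p P : ℤ)) + ∑ P ∈ S, (q P : ℤ) = 2 * n * E.deg := by
    rw [hdegE, Finset.mul_sum, ← Finset.sum_add_distrib]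
    refine Finset.sum_congr rfl fun P hP => ?_
    have := hpq P hP
    have h2 : ((p P + q P : ℕ) : ℤ) = ((n * ((2 * m) * P.deg) : ℕ) : ℤ) := by rw [this]
    push_cast at h2
    rw [h2]; ring
  have hp' : ∑ P ∈ S, (p P : ℤ) = n * E.deg + ∑ P ∈ S, ι P * P.deg := by
    rw [hdegE, Finset.mul_sum, ← Finset.sum_add_distrib]
    refine Finset.sum_congr rfl fun P hP => ?_
    rw [hpι P hP]; push_cast; ring
  have e1' : (Module.finrank k G : ℤ) ≤ Module.finrank k (Gof (D - E)) + ∑ P ∈ S, (p P : ℤ) := by exact_mod_cast e1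
  have e2' : (Module.finrank k (Gof (D + E)) : ℤ) ≤ Module.finrank k G + ∑ P ∈ S, (q P : ℤ) := by exact_mod_cast e2
  rw [hdimG, hdimM, deg_sub] at e1'
  rw [hdimG, hdimP, deg_add] at e2'
  have hmain : cL = n * cK + ∑ P ∈ S, ι P * P.deg := by
    apply le_antisymm <;> linarith
  -- the discriminant
  set δ : Place k K → ℤ := fun P => P.ord (Algebra.discr K (c P)) with hδ
  have hdisc0 : Algebra.discr K b ≠ 0 := Algebra.discr_not_zero_of_basis K b
  have hdiscT : ∀ P, P.ord (Algebra.discr K b) = 2 * ι P + δ P := fun P => by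
    have hb' : (⇑b : Fin n → K') = Matrix.vecMul (⇑(c P)) ((T P).map (algebraMap K K')) :=
      ((c P).toMatrix_map_vecMul (S := K') (fun i => b i)).symm
    conv_lhs => rw [hb', Algebra.discr_of_matrix_vecMul]
    rw [ord_mul P (pow_ne_zero _ (hTdet P)) (Algebra.discr_not_zero_of_basis K (c P)), ord_pow]
    push_cast; ring
  have hgoodι : ∀ P ∉ S, ι P = 0 := fun P hP => by
    have hg : IsIntBasis K' P b := by
      by_contra hng; exact hP (hbad.mem_toFinset.2 hng)
    have hT1 : val P (T P).det ≤ 1 := val_det_le_one _ fun i j => (hc P (b j)).1 (fun Q hQ => hg.val_le_one j hQ) i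
    have hT2 : val P (b.toMatrix (c P)).det ≤ 1 :=
      val_det_le_one _ fun i j => (hg (c P j)).1 (fun Q hQ => (hc P).val_le_one j hQ) i
    have h1 : val P (T P).det * val P (b.toMatrix (c P)).det = 1 := by
      rw [← map_mul, ← Matrix.det_mul, hTinv, Matrix.det_one, map_one]
    have : val P (T P).det = 1 := le_antisymm hT1 (by
      calc (1 : WithZero (Multiplicative ℤ)) = _ := h1.symm
        _ ≤ val P (T P).det * 1 := mul_le_mul_right hT2 _
        _ = _ := mul_one _)
    show P.ord (T P).det = 0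
    rw [ord_eq_of_val_eq P (this.trans exp_zero.symm)]; ring
  -- all relevant places
  set S' : Finset (Place k K) := S ∪ (div k (Algebra.discr K b)).support with hS'
  have hout : ∀ P ∉ S', P.ord (Algebra.discr K b) = 0 ∧ δ P = 0 := fun P hP => by
    simp only [hS', Finset.mem_union, not_or] at hP
    have h1 : P.ord (Algebra.discr K b) = 0 := by
      rw [← h.div_apply]; exact Finsupp.notMem_support_iff.1 hP.2
    refine ⟨h1, ?_⟩
    have := hdiscT P
    rw [h1, hgoodι P hP.1] at this
    omega
  have hsum0 : ∑ P ∈ S', P.ord (Algebra.discr K b) * P.deg = 0 := by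
    rw [← h.deg_div (Algebra.discr K b), deg_eq_degHom, Finsupp.sum]
    simp only [h.div_apply]
    exact (Finset.sum_subset Finset.subset_union_right fun P _ hP => by
      rw [← h.div_apply, Finsupp.notMem_support_iff.1 hP, zero_mul]).symm
  have hsumι : ∑ P ∈ S, ι P * P.deg = ∑ P ∈ S', ι P * P.deg :=
    Finset.sum_subset Finset.subset_union_left fun P _ hP => by rw [hgoodι P hP, zero_mul]
  -- the places above
  set above : Place k K → Finset (Place k K') := fun P => (sum_ramIdx (K' := K') h P).1.toFinset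
  have hab : ∀ P Q, Q ∈ above P ↔ IsOver Q P := fun P Q => Set.Finite.mem_toFinset _
  have hδd : ∀ P, δ P * P.deg = ∑ Q ∈ above P, (d Q : ℤ) * Q.deg := fun P => by
    rw [mul_comm]
    exact ord_discr h (hc P) (hdd P) (above P) (hab P)
  have hdz : ∀ Q, below Q ∉ S' → d Q = 0 := fun Q hQ => by
    have h1 := hδd (below Q)
    rw [(hout _ hQ).2, zero_mul, eq_comm, Finset.sum_eq_zero_iff_of_nonneg fun R _ => by positivity] at h1
    have h2 := h1 Q ((hab _ _).2 ⟨_, hbelow Q⟩)
    rcases mul_eq_zero.1 h2 with h3 | h3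
    · exact_mod_cast h3
    · exact absurd h3 (by exact_mod_cast (h'.deg_pos Q).ne')
  set U := S'.biUnion above with hU
  have hUd : ∀ Q, Q ∉ U → d Q = 0 := fun Q hQ => hdz Q fun hb =>
    hQ (Finset.mem_biUnion.2 ⟨_, hb, (hab _ _).2 ⟨_, hbelow Q⟩⟩)
  refine ⟨d, U.finite_toSet.subset fun Q hQ => by_contra fun hn => hQ (hUd Q hn), hdd, ?_⟩
  rw [finsum_eq_sum_of_support_subset _ (s := U) (fun Q hQ => by_contra fun hn => hQ (by rw [hUd Q hn]; simp)), hU,
    Finset.sum_biUnion (fun P _ R _ hne => Finset.disjoint_left.2 fun Q h1 h2 =>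
      hne ((hbelow_eq ((hab P Q).1 h1)).symm.trans (hbelow_eq ((hab R Q).1 h2)))), hmain, hsumι]
  have : ∑ P ∈ S', ∑ Q ∈ above P, (d Q : ℤ) * Q.deg = -(2 * ∑ P ∈ S', ι P * P.deg) := by
    rw [Finset.sum_congr rfl fun P _ => (hδd P).symm, Finset.mul_sum, eq_neg_iff_add_eq_zero,
      ← Finset.sum_add_distrib, ← hsum0]
    exact Finset.sum_congr rfl fun P _ => by rw [hdiscT P]; ring
  rw [this]; ring

end GrothLib.DiffLattice
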