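import Groth.Agent.Lib.FunFld.NormOrd
import Groth.Agent.Lib.FunFld.Cotrace
import Groth.Agent.Lib.TameDifferent
import Mathlib.RingTheory.Discriminant
import Mathlib.RingTheory.Trace.Quotient

/-!
# The exponents of the different at the places over a fixed place

Described through the trace dual of the integral closure: its order of the discriminant, the
lower bound `e - 1` and the criterion for equality.
-/

set_option autoImplicit false
set_option linter.style.haveILetI false
set_option linter.unusedSectionVars false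

namespace GrothLib.DiffLattice

open _root_.FunFld WithZero GrothLib.FunFld

variable {k K K' : Type*} [Field k] [Field K] [Field K'] [Algebra k K] [Algebra K K'] [Algebra k K']
  [IsScalarTower k K K'] [FiniteDimensional K K']

variable (K') in
/-- A `K`-basis of `K'` that is an `O_P`-basis of the integral closure. -/
def IsIntBasis (P : Place k K) {n : ℕ} (c : Module.Basis (Fin n) K K') : Prop :=
  ∀ x : K', (∀ Q : Place k K', IsOver Q P → val Q x ≤ 1) ↔ ∀ i, val P (c.repr x i) ≤ 1

/-- `x` pairs integrally with the integral closure. -/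
def IsDual (P : Place k K) (x : K') : Prop :=
  ∀ y : K', (∀ Q : Place k K', IsOver Q P → val Q y ≤ 1) → val P (Algebra.trace K K' (x * y)) ≤ 1

/-- The exponents of the different at the places over `P`. -/
def IsDiffExp (P : Place k K) (d : Place k K' → ℕ) : Prop :=
  ∀ x : K', IsDual P x ↔ ∀ Q : Place k K', IsOver Q P → val Q x ≤ exp (d Q : ℤ)

section

variable (P : Place k K) [Algebra P.O K'] [IsScalarTower P.O K K']

theorem exists_intBasis_aux (h : IsFG k K) :
    ∃ (n : ℕ) (b : Module.Basis (Fin n) P.O (integralClosure P.O K'))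
      (c : Module.Basis (Fin n) K K'), (∀ i, c i = (b i : K')) ∧ IsIntBasis K' P c ∧
      ∀ y : integralClosure P.O K',
        ((Algebra.trace P.O (integralClosure P.O K') y : P.O) : K) = Algebra.trace K K' (y : K') := by
  classical
  haveI := isPrincipalIdealRing_O P
  haveI : Module.Finite P.O (integralClosure P.O K') := integralClosure_finite h P
  haveI : Module.IsTorsionFree P.O K' := Module.IsTorsionFree.trans_faithfulSMul P.O K K'
  set R := integralClosure P.O K' with hR
  obtain ⟨n, b⟩ := Submodule.basisOfPid (Module.Free.chooseBasis P.O R) (⊤ : Submodule P.O R)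
  let b' : Module.Basis (Fin n) P.O R := b.map Submodule.topEquiv
  have hli : LinearIndependent K (fun i => ((b' i : R) : K')) := by
    rw [← LinearIndependent.iff_fractionRing P.O K]
    exact b'.linearIndependent.map' (Subalgebra.val R).toLinearMap (LinearMap.ker_eq_bot.mpr Subtype.coe_injective)
  have hsum : ∀ y : R, (y : K') = ∑ i, ((b'.repr y i : P.O) : K) • ((b' i : R) : K') := fun y => by
    conv_lhs => rw [← b'.sum_repr y]
    rw [AddSubmonoidClass.coe_finsetSum]
    exact Finset.sum_congr rfl fun i _ => by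
      rw [Subalgebra.coe_smul, Algebra.smul_def, Algebra.smul_def, IsScalarTower.algebraMap_apply P.O K K']
      rfl
  have hsp : ⊤ ≤ Submodule.span K (Set.range fun i => ((b' i : R) : K')) := by
    intro z _
    obtain ⟨N, t, ht, hint⟩ := exists_shift_integral h P z
    have ht0 : t ^ N ≠ 0 := pow_ne_zero _ fun h0 => by rw [h0, map_zero] at ht; exact exp_ne_zero ht.symm
    have hz : z = (t ^ N)⁻¹ • (algebraMap K K' (t ^ N) * z) := by
      rw [Algebra.smul_def, ← mul_assoc, ← map_mul, inv_mul_cancel₀ ht0, map_one, one_mul]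
    rw [hz]
    refine Submodule.smul_mem _ _ ?_
    rw [show algebraMap K K' (t ^ N) * z = ((⟨_, hint⟩ : R) : K') from rfl, hsum]
    exact sum_mem fun i _ => Submodule.smul_mem _ _ (Submodule.subset_span ⟨i, rfl⟩)
  let c : Module.Basis (Fin n) K K' := Module.Basis.mk hli hsp
  have hc : ∀ i, c i = (b' i : K') := fun i => Module.Basis.mk_apply hli hsp i
  have hrepr : ∀ (y : R) i, c.repr (y : K') i = ((b'.repr y i : P.O) : K) := fun y i => by
    rw [hsum y]
    simp_rw [← hc]
    rw [c.repr_sum_self]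
  refine ⟨n, b', c, hc, fun x => ⟨fun hx i => ?_, fun hx => ?_⟩, fun y => ?_⟩
  · rw [show x = ((⟨x, (isIntegral_iff_forall h x).2 hx⟩ : R) : K') from rfl, hrepr]
    exact (b'.repr _ i).2
  · refine (isIntegral_iff_forall (P := P) h x).1 ?_
    rw [← c.sum_repr x]
    refine IsIntegral.sum _ fun i _ => ?_
    rw [Algebra.smul_def, hc, show algebraMap K K' (c.repr x i) = algebraMap P.O K' ⟨_, hx i⟩ from
      (IsScalarTower.algebraMap_apply P.O K K' ⟨_, hx i⟩).symm]
    exact isIntegral_algebraMap.mul (b' i).2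
  · rw [Algebra.trace_eq_matrix_trace b', Algebra.trace_eq_matrix_trace c, Matrix.trace, Matrix.trace,
      AddSubmonoidClass.coe_finsetSum]
    refine Finset.sum_congr rfl fun i _ => ?_
    rw [Matrix.diag_apply, Matrix.diag_apply, Algebra.leftMulMatrix_eq_repr_mul,
      Algebra.leftMulMatrix_eq_repr_mul, hc, ← Subalgebra.coe_mul, hrepr]

end

theorem exists_intBasis (h : IsFG k K) (P : Place k K) :
    ∃ (n : ℕ) (c : Module.Basis (Fin n) K K'), IsIntBasis K' P c := by
  letI : Algebra P.O K' := ((algebraMap K K').comp P.O.subtype).toAlgebra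
  haveI : IsScalarTower P.O K K' := .of_algebraMap_eq fun _ => rfl
  obtain ⟨n, _, c, -, hc, -⟩ := exists_intBasis_aux (K' := K') P h
  exact ⟨n, c, hc⟩

variable {P : Place k K}

theorem IsIntBasis.val_le_one {n : ℕ} {c : Module.Basis (Fin n) K K'} (hc : IsIntBasis K' P c)
    (i : Fin n) {Q : Place k K'} (hQ : IsOver Q P) : val Q (c i) ≤ 1 := by
  refine (hc (c i)).2 (fun j => ?_) Q hQ
  rw [c.repr_self, Finsupp.single_apply]
  split_ifs <;> simp

theorem val_le_exp {Q : Place k K'} (x : K') : ∃ N : ℤ, val Q x ≤ exp N := by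
  rcases eq_or_ne x 0 with rfl | hx
  · exact ⟨0, by simp⟩
  · exact ⟨_, (val_eq Q hx).le⟩

theorem isDual_one (h : IsFG k K) : IsDual P (1 : K') := fun y hy => by
  rw [one_mul, ← exp_zero]
  refine trace_val_le h P y 0 fun Q e he => ?_
  rw [mul_zero, exp_zero]
  exact hy Q ⟨e, he⟩

theorem IsDual.mul {x y : K'} (hx : IsDual P x) (hy : ∀ Q : Place k K', IsOver Q P → val Q y ≤ 1) :
    IsDual P (x * y) := fun z hz => by
  rw [mul_assoc]
  exact hx _ fun Q hQ => by rw [map_mul]; exact mul_le_one' (hy Q hQ) (hz Q hQ)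

theorem IsDual.add {x y : K'} (hx : IsDual P x) (hy : IsDual P y) : IsDual P (x + y) := fun z hz => by
  rw [add_mul, map_add]
  exact ((val P).map_add _ _).trans (max_le (hx z hz) (hy z hz))

theorem IsDual.sum {ι : Type*} {s : Finset ι} {f : ι → K'} (hf : ∀ i ∈ s, IsDual P (f i)) :
    IsDual P (∑ i ∈ s, f i) := fun z hz => by
  rw [Finset.sum_mul, map_sum]
  exact (val P).map_sum_le fun i hi => hf i hi z hz

section Sep

variable [Algebra.IsSeparable K K']

theorem eq_sum_trace {n : ℕ} (c : Module.Basis (Fin n) K K') (x : K') :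
    x = ∑ i, Algebra.trace K K' (x * c i) •
      (Algebra.traceForm K K').dualBasis (traceForm_nondegenerate K K') c i := by
  conv_lhs => rw [← ((Algebra.traceForm K K').dualBasis (traceForm_nondegenerate K K') c).sum_repr x]
  refine Finset.sum_congr rfl fun i _ => ?_
  rw [LinearMap.BilinForm.dualBasis_repr_apply, Algebra.traceForm_apply]

theorem isDual_dualBasis {n : ℕ} {c : Module.Basis (Fin n) K K'} (hc : IsIntBasis K' P c) (i : Fin n) :
    IsDual P ((Algebra.traceForm K K').dualBasis (traceForm_nondegenerate K K') c i) := fun y hy => by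
  rw [← c.sum_repr y, Finset.mul_sum, map_sum, Finset.sum_eq_single i]
  · rw [mul_smul_comm, map_smul, ← Algebra.traceForm_apply, LinearMap.BilinForm.apply_dualBasis_left,
      if_pos rfl, smul_eq_mul, mul_one]
    exact (hc y).1 hy i
  · intro j _ hj
    rw [mul_smul_comm, map_smul, ← Algebra.traceForm_apply, LinearMap.BilinForm.apply_dualBasis_left,
      if_neg hj, smul_zero]
  · simp

/-- The exponents of the different exist. -/
theorem exists_isDiffExp (h : IsFG k K) (P : Place k K) :
    ∃ d : Place k K' → ℕ, (∀ Q, ¬ IsOver Q P → d Q = 0) ∧ IsDiffExp P d := by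
  classical
  obtain ⟨n, c, hc⟩ := exists_intBasis (K' := K') h P
  set cd := (Algebra.traceForm K K').dualBasis (traceForm_nondegenerate K K') c with hcd
  have hbdd : ∀ Q : Place k K', IsOver Q P → ∃ N : ℤ, ∀ x : K', IsDual P x → val Q x ≤ exp N := by
    intro Q hQ
    choose N hN using fun i => val_le_exp (Q := Q) (cd i)
    obtain ⟨M, hM⟩ := Finset.exists_le (Finset.univ.image N)
    refine ⟨M, fun x hx => ?_⟩
    rw [eq_sum_trace c x]
    refine (val Q).map_sum_le fun i _ => ?_
    rw [Algebra.smul_def, map_mul]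
    refine (mul_le_of_le_one_left' ?_).trans ((hN i).trans
      (exp_le_exp.2 (hM _ (Finset.mem_image_of_mem N (Finset.mem_univ i)))))
    exact (val_le_one_iff_of_isOverWith (ramIdx_spec hQ) _).2 (hx _ fun R hR => hc.val_le_one i hR)
  have key : ∀ Q : Place k K', IsOver Q P → ∃ d : ℕ, (∀ x, IsDual P x → val Q x ≤ exp (d : ℤ)) ∧
      ∃ x, IsDual P x ∧ val Q x = exp (d : ℤ) := by
    intro Q hQ
    obtain ⟨N, hN⟩ := hbdd Q hQ
    obtain ⟨m, ⟨x, hx, hxm⟩, hmax⟩ := Int.exists_greatest_of_bdd
      (P := fun m : ℤ => ∃ x : K', IsDual P x ∧ val Q x = exp m)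
      ⟨N, fun m ⟨x, hx, hxm⟩ => exp_le_exp.1 (hxm ▸ hN x hx)⟩ ⟨0, 1, isDual_one h, by simp⟩
    have hm : 0 ≤ m := hmax 0 ⟨1, isDual_one h, by simp⟩
    lift m to ℕ using hm
    refine ⟨m, fun z hz => ?_, x, hx, hxm⟩
    rcases eq_or_ne z 0 with rfl | hz0
    · simp
    · rw [val_eq Q hz0, exp_le_exp]
      exact hmax _ ⟨z, hz, val_eq Q hz0⟩
  choose d hd s hs hsv using key
  refine ⟨fun Q => if hQ : IsOver Q P then d Q hQ else 0, fun Q hQ => dif_neg hQ, fun x => ⟨fun hx Q hQ => ?_, fun hx => ?_⟩⟩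
  · simp only [dif_pos hQ]; exact hd Q hQ x hx
  obtain ⟨hfin, -⟩ := sum_ramIdx (K' := K') h P
  set T := hfin.toFinset with hT
  have hmem : ∀ Q, Q ∈ T ↔ IsOver Q P := fun Q => hfin.mem_toFinset
  choose u hu using fun Q : Place k K' =>
    exists_approx T (fun R => if R = Q then (1 : K') else 0) fun _ => -1
  have hu1 : ∀ Q, Q ∈ T → val Q (u Q) = 1 := fun Q hQ => by
    have h1 := hu Q Q hQ
    rw [if_pos rfl] at h1
    have h2 : val Q (u Q - 1) < val Q 1 := by
      rw [map_one, ← exp_zero]; exact h1.trans_lt (exp_lt_exp.2 (by omega))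
    rw [show u Q = (u Q - 1) + 1 by ring, (val Q).map_add_eq_of_lt_right h2, map_one]
  have hu2 : ∀ Q R, R ∈ T → R ≠ Q → val R (u Q) ≤ exp (-1) := fun Q R hR hne => by
    simpa [hne] using hu Q R hR
  have hu3 : ∀ Q R, R ∈ T → val R (u Q) ≤ 1 := fun Q R hR => by
    rcases eq_or_ne R Q with rfl | hne
    · exact (hu1 R hR).le
    · refine (hu2 Q R hR hne).trans ?_
      rw [← exp_zero, exp_le_exp]; omega
  set S : K' := ∑ Q ∈ T.attach, u Q.1 * s Q.1 ((hmem _).1 Q.2) with hS
  have hSd : IsDual P S := IsDual.sum fun Q _ => by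
    rw [mul_comm]; exact (hs _ _).mul fun R hR => hu3 _ R ((hmem R).2 hR)
  have hSv : ∀ (Q : Place k K') (hQ : IsOver Q P), val Q S = exp (d Q hQ : ℤ) := fun Q hQ => by
    rw [hS, ← Finset.add_sum_erase _ _ (Finset.mem_attach T ⟨Q, (hmem Q).2 hQ⟩)]
    have h1 : val Q (u Q * s Q hQ) = exp (d Q hQ : ℤ) := by
      rw [map_mul, hu1 Q ((hmem Q).2 hQ), one_mul, hsv]
    rw [(val Q).map_add_eq_of_lt_left (lt_of_lt_of_eq ?_ h1.symm), h1]
    refine (val Q).map_sum_lt exp_ne_zero fun R hR => ?_
    have hne : Q ≠ R.1 := fun e => (Finset.ne_of_mem_erase hR) (Subtype.ext e.symm)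
    rw [map_mul]
    refine (mul_le_mul' (hu2 _ Q ((hmem Q).2 hQ) hne) (hd Q hQ _ (hs _ _))).trans_lt ?_
    rw [← exp_add, exp_lt_exp]; omega
  by_cases hS0 : S = 0
  · refine fun y hy => trace_val_le (d := 0) h P _ (fun Q e he => ?_) |>.trans_eq exp_zero
    exact absurd (hSv Q ⟨e, he⟩) (by rw [hS0, map_zero]; exact exp_ne_zero.symm)
  · rw [show x = S * (x / S) by rw [mul_div_cancel₀ _ hS0]]
    refine hSd.mul fun Q hQ => ?_
    rw [map_div₀, hSv Q hQ, div_le_one₀ (zero_lt_iff.2 exp_ne_zero)]
    simpa [dif_pos hQ] using hx Q hQ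

theorem val_det_le_one {n : ℕ} (M : Matrix (Fin n) (Fin n) K) (hM : ∀ i j, val P (M i j) ≤ 1) :
    val P M.det ≤ 1 := by
  have : M = P.O.subtype.mapMatrix (Matrix.of fun i j => (⟨M i j, hM i j⟩ : P.O)) := rfl
  rw [this, ← RingHom.map_det]
  exact (Matrix.det (Matrix.of fun i j => (⟨M i j, hM i j⟩ : P.O))).2

/-- The order of the discriminant of an integral basis is the degree of the different. -/
theorem ord_discr (h : IsFG k K) {n : ℕ} {c : Module.Basis (Fin n) K K'} (hc : IsIntBasis K' P c)
    {d : Place k K' → ℕ} (hd : IsDiffExp P d) (Qs : Finset (Place k K'))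
    (hQs : ∀ Q, Q ∈ Qs ↔ IsOver Q P) :
    (P.deg : ℤ) * P.ord (Algebra.discr K c) = ∑ Q ∈ Qs, (d Q : ℤ) * Q.deg := by
  classical
  letI : Algebra P.O K' := ((algebraMap K K').comp P.O.subtype).toAlgebra
  haveI : IsScalarTower P.O K K' := .of_algebraMap_eq fun _ => rfl
  -- a generator of the dual lattice
  obtain ⟨s, hs⟩ := exists_approx_eq Qs (fun _ => 0) fun Q => (d Q : ℤ)
  have hs' : ∀ Q : Place k K', IsOver Q P → val Q s = exp (d Q : ℤ) := fun Q hQ => by
    simpa using hs Q ((hQs Q).2 hQ)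
  have hs0 : s ≠ 0 := by
    intro h0
    obtain ⟨hfin, hsum⟩ := sum_ramIdx (K' := K') h P
    have hne : Qs.Nonempty := by
      rw [Finset.nonempty_iff_ne_empty]
      intro he
      have h1 := hsum Qs hQs
      rw [he, Finset.sum_empty] at h1
      exact absurd h1.symm (Nat.mul_pos Module.finrank_pos (h.deg_pos P)).ne'
    obtain ⟨Q, hQ⟩ := hne
    have h2 := hs' Q ((hQs Q).1 hQ)
    rw [h0, map_zero] at h2
    exact exp_ne_zero h2.symm
  have hsd : IsDual P s := (hd s).2 fun Q hQ => (hs' Q hQ).le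
  have hsi : ∀ Q : Place k K', IsOver Q P → val Q s⁻¹ ≤ 1 := fun Q hQ => by
    rw [map_inv₀, hs' Q hQ, ← exp_neg, ← exp_zero, exp_le_exp]; omega
  set cd := (Algebra.traceForm K K').dualBasis (traceForm_nondegenerate K K') c with hcd
  -- the pairing between `c` and `s c`
  set G : Matrix (Fin n) (Fin n) K := Matrix.of fun i j => Algebra.trace K K' (s * c i * c j) with hG
  set U : Matrix (Fin n) (Fin n) K := Matrix.of fun i l => c.repr (cd i / s) l with hU
  have hUG : U * G = 1 := by
    ext i j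
    rw [Matrix.mul_apply, Matrix.one_apply]
    calc ∑ l, U i l * G l j = Algebra.trace K K' ((∑ l, c.repr (cd i / s) l • c l) * s * c j) := by
          rw [Finset.sum_mul, Finset.sum_mul, map_sum]
          refine Finset.sum_congr rfl fun l _ => ?_
          simp only [hU, hG, Matrix.of_apply, smul_mul_assoc, map_smul, smul_eq_mul]
          rw [mul_comm (c l) s]
      _ = Algebra.trace K K' (cd i * c j) := by rw [c.sum_repr, div_mul_cancel₀ _ hs0]
      _ = _ := by
          rw [← Algebra.traceForm_apply, hcd, LinearMap.BilinForm.apply_dualBasis_left]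
          exact if_congr eq_comm rfl rfl
  have hG1 : ∀ i j, val P (G i j) ≤ 1 := fun i j => by
    simp only [hG, Matrix.of_apply, mul_assoc]
    exact hsd _ fun Q hQ => by
      rw [map_mul]; exact mul_le_one' (hc.val_le_one i hQ) (hc.val_le_one j hQ)
  have hU1 : ∀ i j, val P (U i j) ≤ 1 := fun i j => by
    simp only [hU, Matrix.of_apply]
    refine (hc _).1 (fun Q hQ => ?_) j
    rw [map_div₀, hs' Q hQ, div_le_one₀ (zero_lt_iff.2 exp_ne_zero)]
    exact (hd _).1 (isDual_dualBasis hc i) Q hQ
  have hGv : val P G.det = 1 := by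
    have h1 : val P U.det * val P G.det = 1 := by rw [← map_mul, ← Matrix.det_mul, hUG, Matrix.det_one, map_one]
    refine le_antisymm (val_det_le_one G hG1) ?_
    calc (1 : WithZero (Multiplicative ℤ)) = _ := h1.symm
      _ ≤ 1 * val P G.det := mul_le_mul_left (val_det_le_one U hU1) _
      _ = _ := one_mul _
  have hGdet : G.det = Algebra.norm K s * Algebra.discr K c := by
    rw [Algebra.norm_eq_matrix_det c, Algebra.discr_def, ← Matrix.det_transpose (Algebra.leftMulMatrix c s),
      ← Matrix.det_mul]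
    congr 1
    ext i j
    simp only [hG, Matrix.of_apply, Matrix.mul_apply, Matrix.transpose_apply, Algebra.traceMatrix_apply,
      Algebra.traceForm_apply, Algebra.leftMulMatrix_eq_repr_mul]
    conv_lhs => rw [← c.sum_repr (s * c i)]
    rw [Finset.sum_mul, map_sum]
    exact Finset.sum_congr rfl fun l _ => by rw [smul_mul_assoc, map_smul, smul_eq_mul]
  have hN0 : Algebra.norm K s ≠ 0 := Algebra.norm_ne_zero_iff.2 hs0
  have hD0 : Algebra.discr K c ≠ 0 := Algebra.discr_not_zero_of_basis K c
  have h2 : P.ord (Algebra.norm K s) + P.ord (Algebra.discr K c) = 0 := by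
    rw [← ord_mul P hN0 hD0, ← hGdet]
    have := ord_eq_of_val_eq P (n := 0) (hGv.trans exp_zero.symm)
    omega
  have h3 := ord_norm_of_isIntegral h P ((isIntegral_iff_forall (P := P) h _).2 hsi) (inv_ne_zero hs0) Qs hQs
  have hNinv : Algebra.norm K s⁻¹ = (Algebra.norm K s)⁻¹ := eq_inv_of_mul_eq_one_left (by
    rw [← map_mul, inv_mul_cancel₀ hs0, map_one])
  rw [hNinv, ord_inv] at h3
  rw [show P.ord (Algebra.discr K c) = -P.ord (Algebra.norm K s) by omega, h3]
  refine Finset.sum_congr rfl fun Q hQ => ?_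
  rw [ord_inv, ord_eq_of_val_eq Q (hs' Q ((hQs Q).1 hQ))]
  ring

end Sep

end GrothLib.DiffLattice
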